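import Cfsg.Agent.Lib.PiClasses.Orbit

/-!
# The number of classes of elements whose order involves only primes of a given finite set
-/

set_option autoImplicit false
set_option linter.unusedSectionVars false
set_option linter.style.haveILetI false

namespace CfsgLib.PiClasses

open Subgroup

variable {G : Type*} [Group G] [Finite G]

/-- Elements whose order involves only the primes of `σ`. -/
def IsEl (σ : Finset ℕ) (g : G) : Prop := ∀ q : ℕ, q.Prime → q ∣ orderOf g → q ∈ σ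

/-- The classes of such elements. -/
abbrev Cls (σ : Finset ℕ) (X : Type*) [Group X] : Type _ :=
  {C : ConjClasses X // ∃ g : X, IsEl σ g ∧ ConjClasses.mk g = C}

/-- Their number. -/
noncomputable def kk (σ : Finset ℕ) (X : Type*) [Group X] : ℕ := Nat.card (Cls σ X)

/-- The `σ`-part of a number. -/
def part (σ : Finset ℕ) (n : ℕ) : ℕ := ∏ q ∈ σ, q ^ n.factorization q

theorem part_insert {σ : Finset ℕ} {r : ℕ} (hr : r ∉ σ) (n : ℕ) :
    part (insert r σ) n = r ^ n.factorization r * part σ n := Finset.prod_insert hr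

theorem part_singleton (r n : ℕ) : part {r} n = r ^ n.factorization r := Finset.prod_singleton _ _

theorem part_empty (n : ℕ) : part ∅ n = 1 := Finset.prod_empty

theorem part_pos {σ : Finset ℕ} (h : ∀ q ∈ σ, q.Prime) (n : ℕ) : 0 < part σ n :=
  Finset.prod_pos fun q hq => pow_pos (h q hq).pos _

theorem part_dvd_part {σ : Finset ℕ} {d n : ℕ} (hn : n ≠ 0) (h : d ∣ n) : part σ d ∣ part σ n :=
  Finset.prod_dvd_prod_of_dvd _ _ fun q _ => pow_dvd_pow _ <| by
    have hd : d ≠ 0 := fun e => hn (zero_dvd_iff.1 (e ▸ h))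
    exact ((Nat.factorization_le_iff_dvd hd hn).2 h) q

theorem part_dvd {σ : Finset ℕ} (hσ : ∀ q ∈ σ, q.Prime) (n : ℕ) : part σ n ∣ n :=
  aux hσ n
where
  aux {σ : Finset ℕ} (hσ : ∀ q ∈ σ, q.Prime) (n : ℕ) : ∏ q ∈ σ, q ^ n.factorization q ∣ n := by
    induction σ using Finset.induction with
    | empty => simp
    | insert r τ hr ih =>
      rw [Finset.prod_insert hr]
      refine Nat.Coprime.mul_dvd_of_dvd_of_dvd (Nat.Coprime.prod_right fun q hq => ?_) (Nat.ordProj_dvd n r)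
        (ih fun q hq => hσ q (Finset.mem_insert_of_mem hq))
      exact Nat.Coprime.pow _ _ ((Nat.coprime_primes (hσ r (Finset.mem_insert_self r τ))
        (hσ q (Finset.mem_insert_of_mem hq))).2 fun e => hr (e ▸ hq))

theorem part_coprime {σ : Finset ℕ} (hσ : ∀ q ∈ σ, q.Prime) {r : ℕ} (hr : r.Prime) (hrσ : r ∉ σ) (n : ℕ) :
    r.Coprime (part σ n) :=
  Nat.Coprime.prod_right fun q hq => Nat.Coprime.pow_right _ ((Nat.coprime_primes hr (hσ q hq)).2 fun e => hrσ (e ▸ hq))

theorem factorization_part {σ : Finset ℕ} (hσ : ∀ q ∈ σ, q.Prime) {r : ℕ} (hr : r ∈ σ) (n : ℕ) :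
    (part σ n).factorization r = n.factorization r := by
  have h1 : part σ n = r ^ n.factorization r * part (σ.erase r) n := (Finset.mul_prod_erase σ _ hr).symm
  have hp := hσ r hr
  have he : ∀ q ∈ σ.erase r, q.Prime := fun q hq => hσ q (Finset.mem_of_mem_erase hq)
  have hnd : ¬ r ∣ part (σ.erase r) n := hp.coprime_iff_not_dvd.1 (part_coprime he hp (Finset.notMem_erase r σ) n)
  rw [h1, Nat.factorization_mul (pow_ne_zero _ hp.ne_zero) (part_pos he n).ne', Finsupp.add_apply,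
    Nat.Prime.factorization_pow hp, Finsupp.single_eq_same, Nat.factorization_eq_zero_of_not_dvd hnd, add_zero]

theorem part_idem {σ : Finset ℕ} (hσ : ∀ q ∈ σ, q.Prime) (n : ℕ) : part σ (part σ n) = part σ n :=
  Finset.prod_congr rfl fun q hq => by rw [factorization_part hσ hq]

/-- A proper divisor loses at least the least prime. -/
theorem mul_part_le {σ : Finset ℕ} (hσ : ∀ q ∈ σ, q.Prime) {t d n : ℕ} (ht : ∀ q ∈ σ, t ≤ q) (hn : n ≠ 0)
    (h : d ∣ n) (hne : part σ d ≠ part σ n) : t * part σ d ≤ part σ n := by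
  obtain ⟨c, hc⟩ := part_dvd_part (σ := σ) hn h
  have hd : d ≠ 0 := fun e => hn (zero_dvd_iff.1 (e ▸ h))
  have hc1 : c ≠ 1 := fun e => hne (by rw [hc, e, mul_one])
  obtain ⟨q, hq, hqc⟩ := Nat.exists_prime_and_dvd hc1
  have hqσ : q ∈ σ := by
    by_contra hq'
    have := Nat.dvd_gcd (dvd_refl q) ((dvd_mul_left c (part σ d)).trans hc.symm.dvd |> hqc.trans)
    rw [part_coprime hσ hq hq' n] at this
    exact hq.ne_one (Nat.dvd_one.1 this)
  have := Nat.le_of_dvd (Nat.pos_of_ne_zero fun e => by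
    rw [e, mul_zero] at hc; exact (part_pos hσ n).ne' hc) hqc
  rw [hc, mul_comm t]
  exact Nat.mul_le_mul_left _ ((ht q hqσ).trans this)

omit [Finite G] in
theorem IsEl.conj {σ : Finset ℕ} {g : G} (h : IsEl σ g) (x : G) : IsEl σ (x * g * x⁻¹) := by
  rw [IsEl, ← MulAut.conj_apply, MulEquiv.orderOf_eq]; exact h

omit [Finite G] in
theorem IsEl.coe {σ : Finset ℕ} {H : Subgroup G} {g : H} : IsEl σ g ↔ IsEl σ (g : G) := by
  rw [IsEl, IsEl, Subgroup.orderOf_coe]

omit [Finite G] in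
theorem isEl_of_mk {σ : Finset ℕ} {g : G} (c : Cls σ G) (h : ConjClasses.mk g = c.1) : IsEl σ g := by
  obtain ⟨g', hg', e⟩ := c.2
  obtain ⟨x, hx⟩ := isConj_iff.1 (ConjClasses.mk_eq_mk_iff_isConj.1 (e.trans h.symm))
  exact hx ▸ hg'.conj x

/-- Splitting off the part at a prime. -/
theorem split {σ : Finset ℕ} {r : ℕ} (hr : r.Prime) {g : G} (h : IsEl (insert r σ) g) :
    ∃ a b : G, IsEl {r} a ∧ IsEl σ b ∧ a * b = b * a ∧ a * b = g := by
  set n := orderOf g with hn
  have hn0 : n ≠ 0 := (orderOf_pos g).ne'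
  set A := r ^ n.factorization r with hA
  set B := n / A with hB
  have hAB : A * B = n := Nat.ordProj_mul_ordCompl_eq_self n r
  have hcop : A.Coprime B := Nat.Coprime.pow_left _ (Nat.coprime_ordCompl hr hn0)
  obtain ⟨u, v, huv⟩ : ∃ u v : ℤ, (1 : ℤ) = A * u + B * v :=
    ⟨Nat.gcdA A B, Nat.gcdB A B, by rw [← Nat.gcd_eq_gcd_ab, hcop, Nat.cast_one]⟩
  refine ⟨g ^ ((B : ℤ) * v), g ^ ((A : ℤ) * u), fun q hq hd => ?_, fun q hq hd => ?_, ?_, ?_⟩
  · have h1 : orderOf (g ^ ((B : ℤ) * v)) ∣ A := orderOf_dvd_iff_pow_eq_one.2 (by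
      rw [← zpow_natCast, ← zpow_mul, show (B : ℤ) * v * A = (n : ℤ) * v by rw [← hAB]; push_cast; ring,
        zpow_mul, zpow_natCast, hn, pow_orderOf_eq_one, one_zpow])
    rw [Finset.mem_singleton]
    exact (Nat.prime_dvd_prime_iff_eq hq hr).1 (hq.dvd_of_dvd_pow (hd.trans h1))
  · have h1 : orderOf (g ^ ((A : ℤ) * u)) ∣ B := orderOf_dvd_iff_pow_eq_one.2 (by
      rw [← zpow_natCast, ← zpow_mul, show (A : ℤ) * u * B = (n : ℤ) * u by rw [← hAB]; push_cast; ring,
        zpow_mul, zpow_natCast, hn, pow_orderOf_eq_one, one_zpow])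
    have hqB := hd.trans h1
    refine (Finset.mem_insert.1 (h q hq (hqB.trans ⟨A, by rw [mul_comm]; exact hAB.symm⟩))).resolve_left fun e => ?_
    subst e
    exact Nat.not_dvd_ordCompl hr hn0 hqB
  · rw [← zpow_add, ← zpow_add, add_comm]
  · rw [← zpow_add, add_comm, ← huv, zpow_one]

theorem kk_empty (X : Type*) [Group X] [Finite X] : kk ∅ X ≤ 1 := by
  refine Finite.card_le_one_iff_subsingleton.2 ⟨fun c d => Subtype.ext ?_⟩
  have : ∀ c : Cls ∅ X, c.1 = ConjClasses.mk 1 := fun c => by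
    obtain ⟨g, hg, e⟩ := c.2
    rw [← e, show g = 1 from orderOf_eq_one_iff.1 (Nat.eq_one_iff_not_exists_prime_dvd.2
      fun q hq hd => Finset.notMem_empty q (hg q hq hd))]
  rw [this c, this d]

/-- Classes at a set of primes, by a set of representatives of the classes of one part. -/
theorem kk_le_sum {ι : Type*} [Fintype ι] {σ τ ν : Finset ℕ}
    (hsplit : ∀ g : G, IsEl ν g → ∃ a b : G, IsEl τ a ∧ IsEl σ b ∧ a * b = b * a ∧ a * b = g)
    (y : ι → G) (hy : ∀ a : G, IsEl τ a → ∃ i, IsConj a (y i)) :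
    kk ν G ≤ ∑ i, kk σ ↥(centralizer ({y i} : Set G)) := by
  classical
  unfold kk
  rw [← Nat.card_sigma]
  let F : (Σ i, Cls σ ↥(centralizer ({y i} : Set G))) → ConjClasses G :=
    fun x => ConjClasses.mk (y x.1 * (x.2.2.choose : G))
  have hsub : ∀ c : Cls ν G, ∃ x, F x = c.1 := fun c => by
    obtain ⟨g, hg, e⟩ := c.2
    obtain ⟨a, b, ha, hb, hcomm, rfl⟩ := hsplit g hg
    obtain ⟨i, hi⟩ := hy a ha
    obtain ⟨k, hk⟩ := isConj_iff.1 hi
    have hb' : k * b * k⁻¹ ∈ centralizer ({y i} : Set G) := mem_centralizer_singleton_iff.2 (by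
      rw [← hk, show k * b * k⁻¹ * (k * a * k⁻¹) = k * (b * a) * k⁻¹ by group, ← hcomm]; group)
    refine ⟨⟨i, ⟨ConjClasses.mk ⟨_, hb'⟩, ⟨_, IsEl.coe.2 (hb.conj k), rfl⟩⟩⟩, ?_⟩
    rw [← e]
    refine ConjClasses.mk_eq_mk_iff_isConj.2 ?_
    set x : Cls σ ↥(centralizer ({y i} : Set G)) := ⟨ConjClasses.mk ⟨_, hb'⟩, ⟨_, IsEl.coe.2 (hb.conj k), rfl⟩⟩
    obtain ⟨c', hc'⟩ := isConj_iff.1 (ConjClasses.mk_eq_mk_iff_isConj.1 x.2.choose_spec.2)
    have hc'' : (c' : G) * (x.2.choose : G) * (c' : G)⁻¹ = k * b * k⁻¹ := congrArg Subtype.val hc'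
    refine isConj_iff.2 ⟨k⁻¹ * (c' : G), ?_⟩
    have hcy : (c' : G) * y i = y i * c' := mem_centralizer_singleton_iff.1 c'.2
    calc k⁻¹ * (c' : G) * (y i * (x.2.choose : G)) * (k⁻¹ * (c' : G))⁻¹
        = k⁻¹ * ((c' : G) * y i) * (x.2.choose : G) * (c' : G)⁻¹ * k := by group
      _ = k⁻¹ * y i * ((c' : G) * (x.2.choose : G) * (c' : G)⁻¹) * k := by rw [hcy]; group
      _ = a * b := by rw [hc'', ← hk]; group
  choose s hs using hsub
  exact Nat.card_le_card_of_injective s fun c d e => Subtype.ext ((hs c).symm.trans ((congrArg F e).trans (hs d)))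

theorem split_symm {σ : Finset ℕ} {r : ℕ} (hr : r.Prime) (g : G) (h : IsEl (insert r σ) g) :
    ∃ a b : G, IsEl σ a ∧ IsEl {r} b ∧ a * b = b * a ∧ a * b = g := by
  obtain ⟨a, b, ha, hb, hc, e⟩ := split hr h
  exact ⟨b, a, hb, ha, hc.symm, hc.symm.trans e⟩

theorem exists_reps (σ : Finset ℕ) (X : Type*) [Group X] :
    ∃ y : Cls σ X → X, (∀ c, ConjClasses.mk (y c) = c.1) ∧ ∀ a : X, IsEl σ a → ∃ c, IsConj a (y c) := by
  classical
  choose y hy using fun c : Cls σ X => ConjClasses.exists_rep c.1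
  exact ⟨y, hy, fun a ha => ⟨⟨_, a, ha, rfl⟩, ConjClasses.mk_eq_mk_iff_isConj.1 (hy ⟨ConjClasses.mk a, a, ha, rfl⟩).symm⟩⟩

theorem isEl_sylow {r : ℕ} [Fact r.Prime] (R : Sylow r G) (g : G) (hg : g ∈ (R : Subgroup G)) : IsEl {r} g := by
  intro q hq hd
  obtain ⟨k, hk⟩ := R.2 ⟨g, hg⟩
  have h1 : orderOf g ∣ r ^ k := orderOf_dvd_of_pow_eq_one (congrArg Subtype.val hk)
  rw [Finset.mem_singleton]
  exact (Nat.prime_dvd_prime_iff_eq hq Fact.out).1 (hq.dvd_of_dvd_pow (hd.trans h1))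

theorem isPGroup_zpowers {r : ℕ} [hr : Fact r.Prime] {a : G} (ha : IsEl {r} a) : IsPGroup r ↥(zpowers a) := by
  refine IsPGroup.of_card (n := (orderOf a).factorization r) ?_
  rw [Nat.card_zpowers]
  have h0 := (orderOf_pos a).ne'
  have h1 : orderOf a / r ^ (orderOf a).factorization r = 1 := Nat.eq_one_iff_not_exists_prime_dvd.2 fun q hq hd => by
    have := Finset.mem_singleton.1 (ha q hq (hd.trans (Nat.ordCompl_dvd _ _)))
    exact Nat.not_dvd_ordCompl hr.out h0 (this ▸ hd)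
  have h2 := Nat.ordProj_mul_ordCompl_eq_self (orderOf a) r
  rw [h1, mul_one] at h2
  exact h2.symm

theorem exists_conj_mem_sylow {r : ℕ} [Fact r.Prime] (R : Sylow r G) {a : G} (ha : IsEl {r} a) :
    ∃ b ∈ (R : Subgroup G), IsConj a b := by
  obtain ⟨P, hP⟩ := (isPGroup_zpowers ha).exists_le_sylow
  obtain ⟨x, hx⟩ := MulAction.exists_smul_eq G P R
  refine ⟨MulAut.conj x a, ?_, isConj_iff.2 ⟨x, rfl⟩⟩
  rw [← hx]
  exact Subgroup.smul_mem_pointwise_smul _ (MulAut.conj x) (P : Subgroup G) (hP (mem_zpowers a))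

theorem sylow_card {r : ℕ} [Fact r.Prime] (R : Sylow r G) :
    Nat.card ↥(R : Subgroup G) = r ^ (Nat.card G).factorization r := R.card_eq_multiplicity

/-- The class map on a Sylow subgroup. -/
theorem exists_sylow_surj {r : ℕ} [Fact r.Prime] (R : Sylow r G) :
    ∃ f : ↥(R : Subgroup G) → Cls {r} G, Function.Surjective f ∧ ∀ a, (f a).1 = ConjClasses.mk (a : G) := by
  refine ⟨fun a => ⟨ConjClasses.mk (a : G), a, isEl_sylow R a a.2, rfl⟩, fun c => ?_, fun a => rfl⟩
  obtain ⟨g, hg, e⟩ := c.2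
  obtain ⟨b, hb, hab⟩ := exists_conj_mem_sylow R hg
  exact ⟨⟨b, hb⟩, Subtype.ext ((ConjClasses.mk_eq_mk_iff_isConj.2 hab.symm).trans e)⟩

theorem kk_single_le {r : ℕ} [Fact r.Prime] (R : Sylow r G) : kk {r} G ≤ Nat.card ↥(R : Subgroup G) :=
  let ⟨f, hf, _⟩ := exists_sylow_surj R; Nat.card_le_card_of_surjective f hf

universe u

theorem kk_le_part {σ : Finset ℕ} : (∀ q ∈ σ, q.Prime) → ∀ (X : Type u) [Group X] [Finite X], kk σ X ≤ part σ (Nat.card X) := by
  induction σ using Finset.induction with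
  | empty => intro _ X _ _; rw [part_empty]; exact kk_empty X
  | insert r τ hr ih =>
    intro h X _ _
    classical
    haveI := Fact.mk (h r (Finset.mem_insert_self r τ))
    obtain ⟨y, -, hy⟩ := exists_reps {r} X
    letI := Fintype.ofFinite (Cls {r} X)
    refine (kk_le_sum (σ := τ) (fun g hg => split Fact.out hg) y hy).trans ?_
    refine (Finset.sum_le_card_nsmul _ _ (part τ (Nat.card X)) fun c _ =>
      (ih (fun q hq => h q (Finset.mem_insert_of_mem hq)) _).trans ?_).trans ?_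
    · exact Nat.le_of_dvd (part_pos (fun q hq => h q (Finset.mem_insert_of_mem hq)) _)
        (part_dvd_part Nat.card_pos.ne' (Subgroup.card_subgroup_dvd_card _))
    · rw [Finset.card_univ, ← Nat.card_eq_fintype_card, smul_eq_mul, part_insert hr]
      obtain ⟨R⟩ := (inferInstance : Nonempty (Sylow r X))
      exact Nat.mul_le_mul_right _ ((kk_single_le R).trans_eq (sylow_card R))

/-- Splitting off a prime from the count. -/
theorem kk_insert_le {σ : Finset ℕ} {r : ℕ} (hr : r.Prime) (hσ : ∀ q ∈ σ, q.Prime) :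
    kk (insert r σ) G ≤ kk {r} G * part σ (Nat.card G) ∧
      kk (insert r σ) G ≤ kk σ G * r ^ (Nat.card G).factorization r := by
  classical
  constructor
  · obtain ⟨y, -, hy⟩ := exists_reps {r} G
    letI := Fintype.ofFinite (Cls {r} G)
    refine (kk_le_sum (σ := σ) (fun g hg => split hr hg) y hy).trans ?_
    refine (Finset.sum_le_card_nsmul _ _ (part σ (Nat.card G)) fun c _ => (kk_le_part hσ _).trans
      (Nat.le_of_dvd (part_pos hσ _) (part_dvd_part Nat.card_pos.ne' (Subgroup.card_subgroup_dvd_card _)))).trans ?_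
    rw [Finset.card_univ, ← Nat.card_eq_fintype_card, smul_eq_mul]
    rfl
  · obtain ⟨y, -, hy⟩ := exists_reps σ G
    letI := Fintype.ofFinite (Cls σ G)
    refine (kk_le_sum (σ := {r}) (split_symm hr) y hy).trans ?_
    refine (Finset.sum_le_card_nsmul _ _ (part {r} (Nat.card G)) fun c _ =>
      (kk_le_part (fun q hq => (Finset.mem_singleton.1 hq) ▸ hr) _).trans
      (Nat.le_of_dvd (part_pos (fun q hq => (Finset.mem_singleton.1 hq) ▸ hr) _)
        (part_dvd_part Nat.card_pos.ne' (Subgroup.card_subgroup_dvd_card _)))).trans ?_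
    rw [Finset.card_univ, ← Nat.card_eq_fintype_card, smul_eq_mul, part_singleton]
    rfl

end CfsgLib.PiClasses
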