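import Cfsg.Agent.Lib.PiClasses.Local
import Cfsg.Agent.Lib.Solvable.NilpotentHall

/-!
# A Sylow subgroup with a normal complement centralises the nilpotent Hall subgroup at the other primes
-/

set_option autoImplicit false
set_option linter.unusedSectionVars false
set_option linter.style.haveILetI false

namespace CfsgLib.PiClasses

open Subgroup
open scoped Pointwise

variable {G : Type*} [Group G] [Finite G]

theorem coprime_part_index {σ : Finset ℕ} (hσ : ∀ q ∈ σ, q.Prime) (H : Subgroup G)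
    (hH : Nat.card ↥H = part σ (Nat.card G)) : (Nat.card ↥H).Coprime H.index := by
  refine Nat.coprime_of_dvd fun q hq h1 h2 => ?_
  have hqσ : q ∈ σ := by
    by_contra h
    rw [hH] at h1
    exact hq.coprime_iff_not_dvd.1 (part_coprime hσ hq h _) h1
  have e : (Nat.card ↥H * H.index).factorization q = (Nat.card G).factorization q := by rw [H.card_mul_index]
  rw [Nat.factorization_mul Nat.card_pos.ne' H.index_ne_zero_of_finite, Finsupp.add_apply, hH,
    factorization_part hσ hqσ] at e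
  have := hq.factorization_pos_of_dvd H.index_ne_zero_of_finite h2
  omega

theorem mul_card_le_of_lt {r : ℕ} [Fact r.Prime] {A B : Subgroup G} (hB : IsPGroup r ↥B) (h : A < B) :
    r * Nat.card ↥A ≤ Nat.card ↥B := by
  obtain ⟨n, hn⟩ := IsPGroup.iff_card.1 hB
  obtain ⟨i, hi, hA⟩ := (Nat.dvd_prime_pow (Fact.out : r.Prime)).1 (hn ▸ Subgroup.card_dvd_of_le h.le)
  have hin : i < n := lt_of_le_of_ne hi fun e => h.ne (eq_of_le_of_card_ge h.le (by rw [hn, hA, e]))
  rw [hn, hA, ← pow_succ']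
  exact Nat.pow_le_pow_right (Fact.out : r.Prime).pos hin

theorem exists_conj_le_centralizer {σ : Finset ℕ} (hσ : ∀ q ∈ σ, q.Prime) {r : ℕ} [hr : Fact r.Prime] (hrσ : r ∉ σ)
    {t : ℕ} (ht : t ≤ r) (R : Sylow r G) (hRc : ∀ a ∈ (R : Subgroup G), ∀ b ∈ (R : Subgroup G), a * b = b * a)
    (hN : normalizer ((R : Subgroup G) : Set G) ≤ centralizer ((R : Subgroup G) : Set G))
    (hk : part (insert r σ) (Nat.card G) < t * kk (insert r σ) G)
    (H : Subgroup G) (hH : Group.IsNilpotent ↥H) (hHc : Nat.card ↥H = part σ (Nat.card G)) :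
    ∃ x : G, H.map (MulAut.conj x).toMonoidHom ≤ centralizer ((R : Subgroup G) : Set G) := by
  classical
  set K := (MonoidHom.transferSylow R hN).ker with hK
  have hKcomp : IsComplement' K (R : Subgroup G) := MonoidHom.ker_transferSylow_isComplement' R hN
  have hKr : ¬ r ∣ Nat.card ↥K := MonoidHom.not_dvd_card_ker_transferSylow R hN
  have hKi : K.index = r ^ (Nat.card G).factorization r := hKcomp.symm.index_eq_card.trans (sylow_card R)
  have hKmem : ∀ g : G, ¬ r ∣ orderOf g → g ∈ K := by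
    intro g hg
    rw [hK, MonoidHom.mem_ker]
    set w := MonoidHom.transferSylow R hN g with hw
    have h1 : orderOf w ∣ orderOf g := orderOf_map_dvd _ g
    have h2 := orderOf_dvd_natCard w
    rw [sylow_card R] at h2
    obtain ⟨i, -, hi⟩ := (Nat.dvd_prime_pow hr.out).1 h2
    rcases Nat.eq_zero_or_pos i with rfl | hi0
    · exact orderOf_eq_one_iff.1 (hi.trans (pow_zero r))
    · exact absurd ((dvd_pow_self r hi0.ne').trans (hi ▸ h1)) hg
  have hHr : ∀ g ∈ H, ¬ r ∣ orderOf g := fun g hg h => by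
    have h2 := (h.trans (Subgroup.orderOf_dvd_natCard (s := H) hg))
    rw [hHc] at h2
    exact hr.out.coprime_iff_not_dvd.1 (part_coprime hσ hr.out hrσ _) h2
  have hHK : H ≤ K := fun g hg => hKmem g (hHr g hg)
  -- the normaliser of `H` covers the quotient
  set N := normalizer (H : Set G) with hNdef
  have hsup : N ⊔ K = ⊤ := by
    rw [eq_top_iff]
    intro g _
    have hHKc : (Nat.card ↥(H.subgroupOf K)).Coprime (H.subgroupOf K).index := by
      rw [Nat.card_congr (subgroupOfEquivOfLe hHK).toEquiv]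
      exact (coprime_part_index hσ H hHc).coprime_dvd_right ⟨K.index, (Subgroup.relIndex_mul_index hHK).symm⟩
    haveI : Group.IsNilpotent ↥H := hH
    have hnil : Group.IsNilpotent ↥(H.subgroupOf K) := (Group.isNilpotent_congr (subgroupOfEquivOfLe hHK)).2 hH
    set L := (H.map (MulAut.conj g).toMonoidHom).subgroupOf K
    have hgK : H.map (MulAut.conj g).toMonoidHom ≤ K := by
      rintro _ ⟨a, ha, rfl⟩
      exact (inferInstance : K.Normal).conj_mem a (hHK ha) g
    obtain ⟨k, hk'⟩ := CfsgLib.Solvable.nilpotent_hall_dominates hnil hHKc (K := L) fun q _ hq => by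
      rw [Nat.card_congr (subgroupOfEquivOfLe hHK).toEquiv]
      rwa [Nat.card_congr (subgroupOfEquivOfLe hgK).toEquiv, card_map_of_injective (MulEquiv.injective _)] at hq
    have hk'' : (k : G)⁻¹ * g ∈ N := by
      rw [hNdef, mem_normalizer_iff_map_conj_eq]
      refine eq_of_le_of_card_ge ?_ (le_of_eq (card_map_of_injective (MulEquiv.injective _)).symm)
      rintro _ ⟨a, ha, rfl⟩
      have hm := hk' (show (⟨g * a * g⁻¹, hgK ⟨a, ha, rfl⟩⟩ : ↥K) ∈ L from ⟨a, ha, rfl⟩)
      rw [Subgroup.mem_pointwise_smul_iff_inv_smul_mem] at hm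
      have h3 : (k : G)⁻¹ * (g * a * g⁻¹) * k ∈ H := by
        simpa [MulAut.smul_def, Subgroup.mem_subgroupOf, mul_assoc] using hm
      show (k : G)⁻¹ * g * a * ((k : G)⁻¹ * g)⁻¹ ∈ H
      simpa [mul_assoc] using h3
    rw [show g = (k : G) * ((k : G)⁻¹ * g) by group, sup_comm]
    exact mul_mem (mem_sup_left k.2) (mem_sup_right hk'')
  have hdvd : r ^ (Nat.card G).factorization r ∣ Nat.card ↥N := by
    rw [← hKi, ← relIndex_top_right K, ← hsup, relIndex_sup_right]
    exact ⟨Nat.card ↥(K.subgroupOf N), ((Subgroup.card_mul_index (K.subgroupOf N)).symm.trans (mul_comm _ _))⟩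
  obtain ⟨R₁, hR₁⟩ := Sylow.exists_subgroup_card_pow_prime r hdvd
  set R₂ : Sylow r G := Sylow.ofCard (R₁.map N.subtype) (by rw [card_map_of_injective N.subtype_injective, hR₁])
  have hR₂N : (R₂ : Subgroup G) ≤ N := map_subtype_le _
  obtain ⟨x, hx⟩ := MulAction.exists_smul_eq G R₂ R
  refine ⟨x, ?_⟩
  set H₁ := H.map (MulAut.conj x).toMonoidHom with hH₁
  have hRn : (R : Subgroup G) ≤ normalizer (H₁ : Set G) := by
    rw [← hx]
    rintro _ ⟨a, ha, rfl⟩
    rw [mem_normalizer_iff_map_conj_eq, hH₁, map_map]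
    have ha' := mem_normalizer_iff_map_conj_eq.1 (hR₂N ha)
    conv_rhs => rw [← ha', map_map]
    congr 1
    exact MonoidHom.ext fun y => by simp [mul_assoc]
  have hH₁c : Nat.card ↥H₁ = part σ (Nat.card G) := by rw [hH₁, card_map_of_injective (MulEquiv.injective _), hHc]
  haveI : Group.IsNilpotent ↥H₁ := (Group.isNilpotent_congr
    (Subgroup.equivMapOfInjective H _ (MulEquiv.injective _)).symm).2 hH
  suffices hall : ∀ q : ℕ, q.Prime → q ∈ σ →
      q ^ (Nat.card G).factorization q ∣ Nat.card ↥(H₁ ⊓ centralizer ((R : Subgroup G) : Set G)) by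
    have hd : Nat.card ↥H₁ ∣ Nat.card ↥(H₁ ⊓ centralizer ((R : Subgroup G) : Set G)) := by
      rw [hH₁c]
      refine Finset.prod_dvd_of_isRelPrime (fun a ha b hb hab => ?_) fun q hq => hall q (hσ q hq) hq
      exact Nat.coprime_iff_isRelPrime.1 (((Nat.coprime_primes (hσ a ha) (hσ b hb)).2 hab).pow _ _)
    exact (eq_of_le_of_card_ge inf_le_left (Nat.le_of_dvd Nat.card_pos hd)).symm.le.trans inf_le_right
  intro s hs hsσ
  haveI := Fact.mk hs
  have hrs : r ≠ s := fun e => hrσ (e ▸ hsσ)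
  obtain ⟨S⟩ := (inferInstance : Nonempty (Sylow s ↥H₁))
  set S₁ := (S : Subgroup ↥H₁).map H₁.subtype with hS₁
  have hS₁c : Nat.card ↥S₁ = s ^ (Nat.card G).factorization s := by
    rw [hS₁, card_map_of_injective H₁.subtype_injective, S.card_eq_multiplicity, hH₁c, factorization_part hσ hsσ]
  have hS₁p : IsPGroup s ↥S₁ := S.2.map _
  haveI : (S : Subgroup ↥H₁).Normal :=
    ((Group.isNilpotent_of_finite_tfae (G := ↥H₁)).out 0 3 : Group.IsNilpotent ↥H₁ ↔ ∀ (p : ℕ) (_ : Fact p.Prime) (P : Sylow p ↥H₁), (P : Subgroup ↥H₁).Normal).1 inferInstance s inferInstance S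
  have hRS : (R : Subgroup G) ≤ normalizer (S₁ : Set G) := by
    intro a ha
    rw [mem_normalizer_iff_map_conj_eq]
    refine eq_of_le_of_card_ge ?_ (le_of_eq (card_map_of_injective (MulEquiv.injective _)).symm)
    rintro _ ⟨_, ⟨b, hb, rfl⟩, rfl⟩
    have hbm : a * (b : G) * a⁻¹ ∈ H₁ := (mem_normalizer_iff.1 (hRn ha) _).1 b.2
    refine ⟨⟨_, hbm⟩, ?_, rfl⟩
    obtain ⟨k, hk'⟩ := S.2 ⟨b, hb⟩
    have hel : IsEl {s} (⟨_, hbm⟩ : ↥H₁) := by
      rw [IsEl.coe]
      exact (IsEl.coe.1 (isEl_sylow S b hb)).conj a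
    obtain ⟨T, hT⟩ := (isPGroup_zpowers hel).exists_le_sylow
    haveI := Sylow.unique_of_normal S inferInstance
    rw [← Subsingleton.elim T S]
    exact hT (mem_zpowers _)
  suffices hSC : S₁ ≤ centralizer ((R : Subgroup G) : Set G) by
    rw [← hS₁c]
    exact Subgroup.card_dvd_of_le (le_inf (map_subtype_le _) hSC)
  by_contra hne
  have hKs : ∀ g : G, IsEl {s} g → g ∈ K := fun g hg => hKmem g fun h =>
    hrs (Finset.mem_singleton.1 (hg r hr.out h))
  have hσe : ∀ q ∈ σ.erase s, q.Prime := fun q hq => hσ q (Finset.mem_of_mem_erase hq)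
  set rest := part (σ.erase s) (Nat.card G) with hrest
  letI := Fintype.ofFinite ↥(R : Subgroup G)
  have h1 : kk (insert r σ) G ≤ ∑ y : ↥(R : Subgroup G), kk σ ↥(centralizer ({(y : G)} : Set G)) :=
    kk_le_sum (fun g hg => split hr.out hg) _ fun a ha => by
      obtain ⟨b, hb, hab⟩ := exists_conj_mem_sylow R ha
      exact ⟨⟨b, hb⟩, hab⟩
  have h2 : ∀ y : ↥(R : Subgroup G), (r + 1) * kk σ ↥(centralizer ({(y : G)} : Set G)) ≤
      Nat.card ↥S₁ * rest * (if (y : G) ∈ centralizer (S₁ : Set G) then 2 else 1) := by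
    intro y
    have h3 := (kk_insert_le (G := ↥(centralizer ({(y : G)} : Set G))) (r := s) hs hσe).1
    rw [Finset.insert_erase hsσ] at h3
    have h4 := kk_centralizer_bound hrs hKr hKs hS₁p hS₁c R.2 hRS hRc hne y.2
    calc (r + 1) * kk σ ↥(centralizer ({(y : G)} : Set G))
        ≤ (r + 1) * (kk {s} ↥(centralizer ({(y : G)} : Set G)) * rest) :=
          Nat.mul_le_mul_left _ (h3.trans (Nat.mul_le_mul_left _ (Nat.le_of_dvd (part_pos hσe _)
            (part_dvd_part Nat.card_pos.ne' (Subgroup.card_subgroup_dvd_card _)))))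
      _ = (r + 1) * kk {s} ↥(centralizer ({(y : G)} : Set G)) * rest := (mul_assoc _ _ _).symm
      _ ≤ Nat.card ↥S₁ * (if (y : G) ∈ centralizer (S₁ : Set G) then 2 else 1) * rest := Nat.mul_le_mul_right _ h4
      _ = _ := by ring
  set R₀ := (R : Subgroup G) ⊓ centralizer (S₁ : Set G)
  have hR₀ : r * Nat.card ↥R₀ ≤ Nat.card ↥(R : Subgroup G) := mul_card_le_of_lt R.2
    (lt_of_le_of_ne inf_le_left fun e => hne (Subgroup.le_centralizer_iff.1 (inf_eq_left.1 e)))
  have hcount : ∑ y : ↥(R : Subgroup G), (if (y : G) ∈ centralizer (S₁ : Set G) then 2 else 1 : ℕ) =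
      Nat.card ↥(R : Subgroup G) + Nat.card ↥R₀ := by
    rw [show ∑ y : ↥(R : Subgroup G), (if (y : G) ∈ centralizer (S₁ : Set G) then 2 else 1 : ℕ) =
      ∑ y : ↥(R : Subgroup G), (1 + if (y : G) ∈ centralizer (S₁ : Set G) then 1 else 0) from
      Finset.sum_congr rfl fun y _ => by split_ifs <;> rfl]
    rw [Finset.sum_add_distrib, Finset.sum_boole, Finset.card_eq_sum_ones Finset.univ |>.symm, Finset.card_univ,
      ← Nat.card_eq_fintype_card, Nat.cast_id, ← Fintype.card_subtype, ← Nat.card_eq_fintype_card]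
    congr 1
    exact Nat.card_congr ⟨fun y => ⟨y.1.1, y.1.2, y.2⟩, fun y => ⟨⟨y.1, y.2.1⟩, y.2.2⟩, fun y => rfl, fun y => rfl⟩
  have hmain : (r + 1) * kk (insert r σ) G ≤
      Nat.card ↥S₁ * rest * (Nat.card ↥(R : Subgroup G) + Nat.card ↥R₀) := by
    rw [← hcount, Finset.mul_sum]
    refine (Nat.mul_le_mul_left _ h1).trans ?_
    rw [Finset.mul_sum]
    exact Finset.sum_le_sum fun y _ => h2 y
  have hpart : part (insert r σ) (Nat.card G) = Nat.card ↥(R : Subgroup G) * (Nat.card ↥S₁ * rest) := by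
    rw [part_insert hrσ, sylow_card R, hS₁c, hrest, ← part_insert (Finset.notMem_erase s σ), Finset.insert_erase hsσ]
  have h5 : r * ((r + 1) * kk (insert r σ) G) ≤ (r + 1) * part (insert r σ) (Nat.card G) := by
    rw [hpart]
    calc r * ((r + 1) * kk (insert r σ) G)
        ≤ r * (Nat.card ↥S₁ * rest * (Nat.card ↥(R : Subgroup G) + Nat.card ↥R₀)) := Nat.mul_le_mul_left _ hmain
      _ = Nat.card ↥S₁ * rest * (r * Nat.card ↥(R : Subgroup G) + r * Nat.card ↥R₀) := by ring
      _ ≤ Nat.card ↥S₁ * rest * (r * Nat.card ↥(R : Subgroup G) + Nat.card ↥(R : Subgroup G)) :=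
          Nat.mul_le_mul_left _ (Nat.add_le_add_left hR₀ _)
      _ = _ := by ring
  have h6 : r * kk (insert r σ) G ≤ part (insert r σ) (Nat.card G) :=
    Nat.le_of_mul_le_mul_left (show (r + 1) * (r * kk (insert r σ) G) ≤ (r + 1) * part (insert r σ) (Nat.card G) by
      calc (r + 1) * (r * kk (insert r σ) G) = r * ((r + 1) * kk (insert r σ) G) := by ring
        _ ≤ _ := h5) (Nat.succ_pos r)
  exact absurd (hk.trans_le ((Nat.mul_le_mul_right _ ht).trans h6)) (lt_irrefl _)

end CfsgLib.PiClasses
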