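import Cfsg.Agent.Lib.PiClasses.PGroup
import Cfsg.Agent.Lib.PiClasses.Complement

/-!
# Bounds from non-trivial fusion in an abelian Sylow subgroup
-/

set_option autoImplicit false
set_option linter.unusedSectionVars false
set_option linter.style.haveILetI false

namespace CfsgLib.PiClasses

open Subgroup

variable {G : Type*} [Group G] [Finite G]

theorem kk_le_classes {r : ℕ} [Fact r.Prime] (R : Sylow r G) :
    kk {r} G ≤ Nat.card (ConjClasses ↥(R : Subgroup G)) := by
  obtain ⟨f, hf, he⟩ := exists_sylow_surj R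
  choose rep hrep using fun C : ConjClasses ↥(R : Subgroup G) => ConjClasses.exists_rep C
  refine Nat.card_le_card_of_surjective (fun C => f (rep C)) fun c => ?_
  obtain ⟨a, ha⟩ := hf c
  refine ⟨ConjClasses.mk a, Subtype.ext ?_⟩
  rw [← ha, he, he]
  exact ConjClasses.mk_eq_mk_iff_isConj.2
    (MonoidHom.map_isConj (R : Subgroup G).subtype (ConjClasses.mk_eq_mk_iff_isConj.1 (hrep _)))

/-- Above the threshold the Sylow subgroup is commutative. -/
theorem isMulCommutative_of_large {r : ℕ} [Fact r.Prime] {t : ℕ} (ht : t < r) (R : Sylow r G)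
    (h : Nat.card ↥(R : Subgroup G) < t * kk {r} G) : IsMulCommutative ↥(R : Subgroup G) := by
  by_contra hnc
  have h1 := classes_mul_cube_le R.2 hnc
  have h2 : Nat.card ↥(R : Subgroup G) < t * Nat.card (ConjClasses ↥(R : Subgroup G)) :=
    h.trans_le (Nat.mul_le_mul_left _ (kk_le_classes R))
  obtain ⟨r', rfl⟩ : ∃ r', r = r' + 1 := ⟨r - 1, by omega⟩
  rw [show (r' + 1) ^ 2 + (r' + 1) - 1 = (r' + 1) ^ 2 + r' by omega] at h1
  have h3 : Nat.card ↥(R : Subgroup G) * (r' + 1) ^ 3 <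
      t * (Nat.card ↥(R : Subgroup G) * ((r' + 1) ^ 2 + r')) :=
    (Nat.mul_lt_mul_of_pos_right h2 (by positivity)).trans_le (by rw [mul_assoc]; exact Nat.mul_le_mul_left _ h1)
  have h4 : t * ((r' + 1) ^ 2 + r') ≤ r' * ((r' + 1) ^ 2 + r') := Nat.mul_le_mul_right _ (by omega)
  nlinarith [Nat.card_pos (α := ↥(R : Subgroup G))]

/-- Non-commutative or fused Sylow subgroups have at most half as many classes, roughly. -/
theorem kk_small_bound {s : ℕ} [hs : Fact s.Prime] {t : ℕ} (ht : t ≤ s) (S : Sylow s G)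
    (h : ¬ IsMulCommutative ↥(S : Subgroup G) ∨
      ¬ normalizer ((S : Subgroup G) : Set G) ≤ centralizer ((S : Subgroup G) : Set G)) :
    2 * t * kk {s} G ≤ (t + 1) * Nat.card ↥(S : Subgroup G) := by
  classical
  have hs2 := hs.out.two_le
  set N := Nat.card ↥(S : Subgroup G)
  by_cases hc : IsMulCommutative ↥(S : Subgroup G)
  · obtain ⟨n, hn, hnC⟩ := SetLike.not_le_iff_exists.1 (h.resolve_left (not_not.2 hc))
    let σp : Equiv.Perm ↥(S : Subgroup G) := Equiv.ofBijective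
      (fun a => ⟨n * (a : G) * n⁻¹, (mem_normalizer_iff.1 hn _).1 a.2⟩)
      (Finite.injective_iff_bijective.1 fun a b e => Subtype.ext
        (mul_left_cancel (mul_right_cancel (congrArg Subtype.val e))))
    obtain ⟨f, hf, he⟩ := exists_sylow_surj S
    have h1 := two_mul_card_le σp f hf fun a => Subtype.ext (by
      rw [he, he, ConjClasses.mk_eq_mk_iff_isConj]
      exact (isConj_iff.2 ⟨n, rfl⟩).symm)
    set F := (S : Subgroup G) ⊓ centralizer ({n} : Set G)
    have hF : Nat.card {a : ↥(S : Subgroup G) | σp a = a} = Nat.card ↥F := Nat.card_congr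
      { toFun := fun a => ⟨a.1.1, a.1.2, mem_centralizer_singleton_iff.2
          (mul_inv_eq_iff_eq_mul.1 (congrArg Subtype.val a.2)).symm⟩
        invFun := fun a => ⟨⟨a.1, a.2.1⟩, Subtype.ext (show n * a.1 * n⁻¹ = a.1 by
          rw [(mem_centralizer_singleton_iff.1 a.2.2).symm, mul_inv_cancel_right])⟩
        left_inv := fun a => rfl
        right_inv := fun a => rfl }
    have h2 : s * Nat.card ↥F ≤ N := mul_card_le_of_lt S.2 (lt_of_le_of_ne inf_le_left fun e => hnC
      (mem_centralizer_iff.2 fun a ha => mem_centralizer_singleton_iff.1 ((inf_eq_left.1 e) ha)))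
    rw [hF] at h1
    have h3 : 2 * s * kk {s} G ≤ (s + 1) * N := by
      calc 2 * s * kk {s} G = s * (kk {s} G * 2) := by ring
        _ ≤ s * (N + Nat.card ↥F) := Nat.mul_le_mul_left _ h1
        _ ≤ _ := by rw [mul_add, add_mul, one_mul]; exact Nat.add_le_add_left h2 _
    have h4 : s * (2 * t * kk {s} G) ≤ s * ((t + 1) * N) := by
      calc s * (2 * t * kk {s} G) = t * (2 * s * kk {s} G) := by ring
        _ ≤ t * ((s + 1) * N) := Nat.mul_le_mul_left _ h3
        _ = s * (t * N) + t * N := by ring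
        _ ≤ s * (t * N) + s * N := Nat.add_le_add_left (Nat.mul_le_mul_right _ ht) _
        _ = _ := by ring
    exact Nat.le_of_mul_le_mul_left h4 (lt_of_lt_of_le Nat.zero_lt_two hs2)
  · have h1 := classes_mul_cube_le S.2 hc
    have h2 := kk_le_classes S
    obtain ⟨s', rfl⟩ : ∃ s', s = s' + 1 := ⟨s - 1, by omega⟩
    rw [show (s' + 1) ^ 2 + (s' + 1) - 1 = (s' + 1) ^ 2 + s' by omega] at h1
    suffices h4 : (s' + 1) ^ 3 * (2 * t * kk {s' + 1} G) ≤ (s' + 1) ^ 3 * ((t + 1) * N) from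
      Nat.le_of_mul_le_mul_left h4 (by positivity)
    calc (s' + 1) ^ 3 * (2 * t * kk {s' + 1} G)
        = 2 * t * (kk {s' + 1} G * (s' + 1) ^ 3) := by ring
      _ ≤ 2 * t * (Nat.card (ConjClasses ↥(S : Subgroup G)) * (s' + 1) ^ 3) :=
          Nat.mul_le_mul_left _ (Nat.mul_le_mul_right _ h2)
      _ ≤ 2 * t * (N * ((s' + 1) ^ 2 + s')) := Nat.mul_le_mul_left _ h1
      _ ≤ _ := by
        obtain ⟨u, rfl⟩ : ∃ u, s' = u + 1 := ⟨s' - 1, by omega⟩
        have h5 : 2 * t * ((u + 1 + 1) ^ 2 + (u + 1)) ≤ (t + 1) * (u + 1 + 1) ^ 3 := by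
          rcases Nat.eq_zero_or_pos u with rfl | hu
          · norm_num
            omega
          · obtain ⟨v, rfl⟩ : ∃ v, u = v + 1 := ⟨u - 1, by omega⟩
            nlinarith [Nat.zero_le (t * v ^ 3), Nat.zero_le (t * v ^ 2), Nat.zero_le (t * v)]
        calc 2 * t * (N * ((u + 1 + 1) ^ 2 + (u + 1))) = N * (2 * t * ((u + 1 + 1) ^ 2 + (u + 1))) := by ring
          _ ≤ N * ((t + 1) * (u + 1 + 1) ^ 3) := Nat.mul_le_mul_left _ h5
          _ = _ := by ring

/-- The classes not meeting the centraliser of `R`. -/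
abbrev NonFull (σ : Finset ℕ) (R : Subgroup G) : Type _ :=
  {c : Cls σ G // ¬ ∃ w ∈ centralizer (R : Set G), ConjClasses.mk w = c.1}

variable {σ : Finset ℕ} {r : ℕ} [hr : Fact r.Prime] (R : Sylow r G)

theorem kk_centralizer_nonfull (c : NonFull σ (R : Subgroup G)) {y : G} (hy : ConjClasses.mk y = c.1.1) :
    r * kk {r} ↥(centralizer ({y} : Set G)) ≤ Nat.card ↥(R : Subgroup G) := by
  obtain ⟨Q⟩ := (inferInstance : Nonempty (Sylow r ↥(centralizer ({y} : Set G))))
  obtain ⟨P, hP⟩ := (Q.2.map (centralizer ({y} : Set G)).subtype).exists_le_sylow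
  have hlt : (Q : Subgroup ↥(centralizer ({y} : Set G))).map (centralizer ({y} : Set G)).subtype < (P : Subgroup G) := by
    refine lt_of_le_of_ne hP fun e => c.2 ?_
    obtain ⟨x, hx⟩ := MulAction.exists_smul_eq G P R
    refine ⟨MulAut.conj x y, mem_centralizer_iff.2 fun a ha => ?_,
      (ConjClasses.mk_eq_mk_iff_isConj.2 (isConj_iff.2 ⟨x, rfl⟩)).symm.trans hy⟩
    rw [← hx] at ha
    obtain ⟨b, hb, rfl⟩ := ha
    rw [← e] at hb
    obtain ⟨b', -, rfl⟩ := hb
    show MulAut.conj x (b' : G) * MulAut.conj x y = MulAut.conj x y * MulAut.conj x (b' : G)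
    rw [← map_mul, ← map_mul, mem_centralizer_singleton_iff.1 b'.2]
  have h := mul_card_le_of_lt P.2 hlt
  rw [card_map_of_injective (centralizer ({y} : Set G)).subtype_injective] at h
  calc r * kk {r} ↥(centralizer ({y} : Set G)) ≤ r * Nat.card ↥(Q : Subgroup ↥(centralizer ({y} : Set G))) :=
      Nat.mul_le_mul_left _ (kk_single_le Q)
    _ ≤ Nat.card ↥(P : Subgroup G) := h
    _ = _ := by rw [sylow_card P, sylow_card R]

theorem kk_fusion_bound (hRc : ∀ a ∈ (R : Subgroup G), ∀ b ∈ (R : Subgroup G), a * b = b * a)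
    (hN : ¬ normalizer ((R : Subgroup G) : Set G) ≤ centralizer ((R : Subgroup G) : Set G)) :
    2 * r * kk (insert r σ) G ≤
      Nat.card ↥(R : Subgroup G) * ((r + 1) * kk σ ↥(centralizer ((R : Subgroup G) : Set G)) +
        2 * Nat.card (NonFull σ (R : Subgroup G))) := by
  classical
  set C := centralizer ((R : Subgroup G) : Set G) with hC
  have hCmem : ∀ g ∈ C, ∀ b ∈ (R : Subgroup G), b * g = g * b := fun g hg b hb => mem_centralizer_iff.1 hg b hb
  choose rep hrep using fun c : Cls σ ↥C => ConjClasses.exists_rep c.1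
  let F : ↥(R : Subgroup G) × Cls σ ↥C → ConjClasses G := fun x => ConjClasses.mk ((rep x.2 : G) * (x.1 : G))
  have hF : ∀ (b : ↥(R : Subgroup G)) (c : Cls σ ↥C) (w : ↥C), ConjClasses.mk w = c.1 →
      F (b, c) = ConjClasses.mk ((w : G) * (b : G)) := by
    intro b c w hw
    obtain ⟨x, hx⟩ := isConj_iff.1 (ConjClasses.mk_eq_mk_iff_isConj.1 ((hrep c).trans hw.symm))
    refine ConjClasses.mk_eq_mk_iff_isConj.2 (isConj_iff.2 ⟨(x : G), ?_⟩)
    rw [← hx]
    show (x : G) * ((rep c : G) * b) * (x : G)⁻¹ = (x : G) * rep c * (x : G)⁻¹ * b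
    rw [mul_assoc _ ((x : G)⁻¹), ← mul_assoc, mul_assoc ((x : G) * rep c),
      show (b : G) * (x : G)⁻¹ = (x : G)⁻¹ * b from hCmem _ (inv_mem x.2) _ b.2]
  -- conjugation by an element of the normaliser outside the centraliser
  obtain ⟨n, hn, hnC⟩ := SetLike.not_le_iff_exists.1 hN
  have hCn : ∀ g ∈ C, n * g * n⁻¹ ∈ C := by
    intro g hg
    refine mem_centralizer_iff.2 fun b hb => ?_
    have hb' : n⁻¹ * b * n ∈ (R : Subgroup G) := by
      simpa using (mem_normalizer_iff.1 (inv_mem hn) b).1 hb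
    calc b * (n * g * n⁻¹) = n * ((n⁻¹ * b * n) * g) * n⁻¹ := by group
      _ = n * (g * (n⁻¹ * b * n)) * n⁻¹ := by rw [hCmem g hg _ hb']
      _ = _ := by group
  let φ : ↥C →* ↥C :=
    { toFun := fun g => ⟨n * (g : G) * n⁻¹, hCn g g.2⟩
      map_one' := Subtype.ext (by simp)
      map_mul' := fun a b => Subtype.ext (by simp [mul_assoc]) }
  have hφ : Function.Bijective φ := Finite.injective_iff_bijective.1 fun a b e => Subtype.ext
    (mul_left_cancel (mul_right_cancel (congrArg Subtype.val e)))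
  let e := MulEquiv.ofBijective φ hφ
  have hmapel : ∀ w : ↥C, IsEl σ w → IsEl σ (e w) := fun w hw => by rwa [IsEl, MulEquiv.orderOf_eq]
  let g : ↥(R : Subgroup G) × Cls σ ↥C → ↥(R : Subgroup G) × Cls σ ↥C := fun x =>
    (⟨n * (x.1 : G) * n⁻¹, (mem_normalizer_iff.1 hn _).1 x.1.2⟩,
      ⟨ConjClasses.mk (e (rep x.2)), e (rep x.2), hmapel _ (isEl_of_mk x.2 (hrep x.2)), rfl⟩)
  have hg : Function.Injective g := by
    intro x y h
    have h1 := congrArg Prod.fst h
    have h2 := congrArg (fun p : ↥(R : Subgroup G) × Cls σ ↥C => p.2.1) h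
    refine Prod.ext (Subtype.ext (mul_left_cancel (mul_right_cancel (congrArg Subtype.val h1)))) (Subtype.ext ?_)
    rw [← hrep x.2, ← hrep y.2]
    refine ConjClasses.mk_eq_mk_iff_isConj.2 ?_
    have h3 := MonoidHom.map_isConj e.symm.toMonoidHom (ConjClasses.mk_eq_mk_iff_isConj.1 h2)
    simpa using h3
  let π : Equiv.Perm (↥(R : Subgroup G) × Cls σ ↥C) := Equiv.ofBijective g (Finite.injective_iff_bijective.1 hg)
  let f : ↥(R : Subgroup G) × Cls σ ↥C → Set.range F := fun x => ⟨F x, x, rfl⟩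
  have h1 := two_mul_card_le π f (fun ⟨_, x, hx⟩ => ⟨x, Subtype.ext hx⟩) fun x => Subtype.ext (by
    show F (g x) = F x
    rw [hF _ _ _ rfl]
    refine (ConjClasses.mk_eq_mk_iff_isConj.2 (isConj_iff.2 ⟨n, ?_⟩)).symm
    show n * ((rep x.2 : G) * (x.1 : G)) * n⁻¹ = n * (rep x.2 : G) * n⁻¹ * (n * (x.1 : G) * n⁻¹)
    group)
  set Fx := (R : Subgroup G) ⊓ centralizer ({n} : Set G)
  have hfix : Nat.card {x : ↥(R : Subgroup G) × Cls σ ↥C | π x = x} ≤ Nat.card ↥Fx * kk σ ↥C := by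
    rw [kk, ← Nat.card_prod]
    refine Nat.card_le_card_of_injective (fun x => (⟨x.1.1.1, x.1.1.2, mem_centralizer_singleton_iff.2
      (mul_inv_eq_iff_eq_mul.1 (congrArg (fun p : ↥(R : Subgroup G) × Cls σ ↥C => (p.1 : G)) x.2)).symm⟩, x.1.2))
      fun x y h => ?_
    refine Subtype.ext (Prod.ext (Subtype.ext ?_) (congrArg Prod.snd h :))
    exact (congrArg (fun p : ↥Fx × Cls σ ↥C => (p.1 : G)) h :)
  have hFx : r * Nat.card ↥Fx ≤ Nat.card ↥(R : Subgroup G) := mul_card_le_of_lt R.2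
    (lt_of_le_of_ne inf_le_left fun e => hnC
      (mem_centralizer_iff.2 fun a ha => mem_centralizer_singleton_iff.1 ((inf_eq_left.1 e) ha)))
  rw [Nat.card_prod] at h1
  have hfull : 2 * r * Nat.card (Set.range F) ≤ Nat.card ↥(R : Subgroup G) * ((r + 1) * kk σ ↥C) := by
    calc 2 * r * Nat.card (Set.range F) = r * (Nat.card (Set.range F) * 2) := by ring
      _ ≤ r * (Nat.card ↥(R : Subgroup G) * kk σ ↥C + Nat.card ↥Fx * kk σ ↥C) :=
          Nat.mul_le_mul_left _ (h1.trans (Nat.add_le_add_left hfix _))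
      _ = Nat.card ↥(R : Subgroup G) * (r * kk σ ↥C) + r * Nat.card ↥Fx * kk σ ↥C := by ring
      _ ≤ Nat.card ↥(R : Subgroup G) * (r * kk σ ↥C) + Nat.card ↥(R : Subgroup G) * kk σ ↥C :=
          Nat.add_le_add_left (Nat.mul_le_mul_right _ hFx) _
      _ = _ := by ring
  -- every class is covered
  letI := Fintype.ofFinite (NonFull σ (R : Subgroup G))
  choose y hy using fun c : NonFull σ (R : Subgroup G) => ConjClasses.exists_rep c.1.1
  choose rp hrp using fun (c : NonFull σ (R : Subgroup G)) (d : Cls {r} ↥(centralizer ({y c} : Set G))) =>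
    ConjClasses.exists_rep d.1
  let cov : Set.range F ⊕ (Σ c, Cls {r} ↥(centralizer ({y c} : Set G))) → ConjClasses G := fun x =>
    match x with
    | .inl u => u.1
    | .inr u => ConjClasses.mk (y u.1 * (rp u.1 u.2 : G))
  have hcov : kk (insert r σ) G ≤
      Nat.card (Set.range F) + ∑ c : NonFull σ (R : Subgroup G), kk {r} ↥(centralizer ({y c} : Set G)) := by
    unfold kk
    rw [← Nat.card_sigma, ← Nat.card_sum]
    have hsub : ∀ c : Cls (insert r σ) G, ∃ x, cov x = c.1 := fun c => by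
      obtain ⟨u, hu, e0⟩ := c.2
      obtain ⟨a, b, ha, hb, hab, rfl⟩ := split_symm hr.out u hu
      by_cases hw : ∃ w ∈ C, ConjClasses.mk w = ConjClasses.mk a
      · obtain ⟨w, hwC, hwa⟩ := hw
        obtain ⟨k, hk⟩ := isConj_iff.1 (ConjClasses.mk_eq_mk_iff_isConj.1 hwa.symm)
        have hb' : k * b * k⁻¹ ∈ centralizer ({w} : Set G) := mem_centralizer_singleton_iff.2 (by
          rw [← hk, show k * b * k⁻¹ * (k * a * k⁻¹) = k * (b * a) * k⁻¹ by group, ← hab]; group)
        have hRw : (R : Subgroup G) ≤ centralizer ({w} : Set G) := fun x hx =>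
          mem_centralizer_singleton_iff.2 (hCmem w hwC x hx)
        obtain ⟨b', hb'R, hconj⟩ := exists_conj_mem_sylow (R.subtype hRw)
          (a := (⟨_, hb'⟩ : ↥(centralizer ({w} : Set G)))) (IsEl.coe.2 (hb.conj k))
        obtain ⟨x, hx⟩ := isConj_iff.1 hconj
        have hwel : IsEl σ (⟨w, hwC⟩ : ↥C) := IsEl.coe.2 (hk ▸ ha.conj k)
        refine ⟨.inl ⟨F (⟨b', hb'R⟩, ⟨ConjClasses.mk ⟨w, hwC⟩, _, hwel, rfl⟩), _, rfl⟩, ?_⟩
        show F _ = c.1
        rw [hF _ _ ⟨w, hwC⟩ rfl, ← e0]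
        refine (ConjClasses.mk_eq_mk_iff_isConj.2 (isConj_iff.2 ⟨(x : G) * k, ?_⟩)).symm
        have hx' : (x : G) * (k * b * k⁻¹) * (x : G)⁻¹ = b' := congrArg Subtype.val hx
        have hxw : (x : G) * w = w * x := mem_centralizer_singleton_iff.1 x.2
        show (x : G) * k * (a * b) * ((x : G) * k)⁻¹ = w * b'
        rw [← hx']
        calc (x : G) * k * (a * b) * ((x : G) * k)⁻¹ = ((x : G) * (k * a * k⁻¹)) * (k * b * k⁻¹) * (x : G)⁻¹ := by group
          _ = _ := by rw [hk, hxw]; group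
      · let c₁ : NonFull σ (R : Subgroup G) := ⟨⟨ConjClasses.mk a, a, ha, rfl⟩, hw⟩
        obtain ⟨k, hk⟩ := isConj_iff.1 (ConjClasses.mk_eq_mk_iff_isConj.1 (hy c₁).symm)
        have hb' : k * b * k⁻¹ ∈ centralizer ({y c₁} : Set G) := mem_centralizer_singleton_iff.2 (by
          rw [← hk, show k * b * k⁻¹ * (k * a * k⁻¹) = k * (b * a) * k⁻¹ by group, ← hab]; group)
        let d : Cls {r} ↥(centralizer ({y c₁} : Set G)) :=
          ⟨ConjClasses.mk ⟨_, hb'⟩, _, IsEl.coe.2 (hb.conj k), rfl⟩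
        refine ⟨.inr ⟨c₁, d⟩, ?_⟩
        show ConjClasses.mk (y c₁ * (rp c₁ d : G)) = c.1
        rw [← e0]
        obtain ⟨x, hx⟩ := isConj_iff.1 (ConjClasses.mk_eq_mk_iff_isConj.1 (hrp c₁ d))
        have hx' : (x : G) * (rp c₁ d : G) * (x : G)⁻¹ = k * b * k⁻¹ := congrArg Subtype.val hx
        have hxy : (x : G) * y c₁ = y c₁ * x := mem_centralizer_singleton_iff.1 x.2
        refine ConjClasses.mk_eq_mk_iff_isConj.2 (isConj_iff.2 ⟨k⁻¹ * (x : G), ?_⟩)
        calc k⁻¹ * (x : G) * (y c₁ * (rp c₁ d : G)) * (k⁻¹ * (x : G))⁻¹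
            = k⁻¹ * ((x : G) * y c₁) * (rp c₁ d : G) * (x : G)⁻¹ * k := by group
          _ = k⁻¹ * y c₁ * ((x : G) * (rp c₁ d : G) * (x : G)⁻¹) * k := by rw [hxy]; group
          _ = a * b := by rw [hx', ← hk]; group
    choose s hs using hsub
    exact Nat.card_le_card_of_injective s fun c d h => Subtype.ext ((hs c).symm.trans ((congrArg cov h).trans (hs d)))
  have hnf : r * ∑ c : NonFull σ (R : Subgroup G), kk {r} ↥(centralizer ({y c} : Set G)) ≤
      Nat.card (NonFull σ (R : Subgroup G)) * Nat.card ↥(R : Subgroup G) := by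
    rw [Finset.mul_sum, Nat.card_eq_fintype_card, ← smul_eq_mul, ← Finset.card_univ]
    exact Finset.sum_le_card_nsmul _ _ _ fun c _ => kk_centralizer_nonfull R c (hy c)
  calc 2 * r * kk (insert r σ) G
      ≤ 2 * r * Nat.card (Set.range F) + 2 * (r * ∑ c : NonFull σ (R : Subgroup G),
        kk {r} ↥(centralizer ({y c} : Set G))) := by
          rw [← mul_assoc 2 r, ← mul_add]; exact Nat.mul_le_mul_left _ hcov
    _ ≤ Nat.card ↥(R : Subgroup G) * ((r + 1) * kk σ ↥C) +
        2 * (Nat.card (NonFull σ (R : Subgroup G)) * Nat.card ↥(R : Subgroup G)) :=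
          Nat.add_le_add hfull (Nat.mul_le_mul_left _ hnf)
    _ = _ := by ring

theorem card_nonfull_le : Nat.card (NonFull σ (R : Subgroup G)) ≤ kk σ G := Finite.card_subtype_le _

/-- At a single prime: the classes not meeting the centraliser of `R` lie outside one of its Sylow subgroups. -/
theorem card_nonfull_single {s : ℕ} [Fact s.Prime] :
    ∃ P₀ : ℕ, P₀ ∣ s ^ (Nat.card G).factorization s ∧
      Nat.card (NonFull {s} (R : Subgroup G)) + P₀ ≤ s ^ (Nat.card G).factorization s ∧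
      kk {s} ↥(centralizer ((R : Subgroup G) : Set G)) ≤ P₀ ∧
      P₀ = part {s} (Nat.card ↥(centralizer ((R : Subgroup G) : Set G))) := by
  classical
  set C := centralizer ((R : Subgroup G) : Set G)
  obtain ⟨Q⟩ := (inferInstance : Nonempty (Sylow s ↥C))
  obtain ⟨P, hP⟩ := (Q.2.map C.subtype).exists_le_sylow
  refine ⟨Nat.card ↥(Q : Subgroup ↥C), ?_, ?_, kk_single_le Q, by rw [sylow_card Q, part_singleton]⟩
  · rw [sylow_card Q]
    exact pow_dvd_pow _ ((Nat.factorization_le_iff_dvd Nat.card_pos.ne' Nat.card_pos.ne').2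
      (Subgroup.card_subgroup_dvd_card C) s)
  · rw [← sylow_card P, ← Nat.card_sum]
    choose b hbP hb using fun c : NonFull {s} (R : Subgroup G) =>
      show ∃ b ∈ (P : Subgroup G), ConjClasses.mk b = c.1.1 by
        obtain ⟨g, hg, e⟩ := c.1.2
        obtain ⟨b, hb, hgb⟩ := exists_conj_mem_sylow P hg
        exact ⟨b, hb, (ConjClasses.mk_eq_mk_iff_isConj.2 hgb.symm).trans e⟩
    refine Nat.card_le_card_of_injective (fun x => match x with
      | .inl c => (⟨b c, hbP c⟩ : ↥(P : Subgroup G))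
      | .inr q => ⟨((q : ↥C) : G), hP ⟨q, q.2, rfl⟩⟩) ?_
    rintro (c | q) (c' | q') h
    · refine congrArg Sum.inl (Subtype.ext (Subtype.ext ?_))
      rw [← hb c, ← hb c', show b c = b c' from congrArg Subtype.val h]
    · exact absurd ⟨_, (q' : ↥C).2, by rw [← hb c]; exact congrArg ConjClasses.mk (congrArg Subtype.val h).symm⟩ c.2
    · exact absurd ⟨_, (q : ↥C).2, by rw [← hb c']; exact congrArg ConjClasses.mk (congrArg Subtype.val h)⟩ c'.2
    · exact congrArg Sum.inr (Subtype.ext (Subtype.ext (congrArg (fun z : ↥(P : Subgroup G) => (z : G)) h :)))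

end CfsgLib.PiClasses
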