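import Cfsg.Agent.Lib.PiClasses.Main

/-!
# Translation from the `π`-part formulation
-/

set_option autoImplicit false
set_option linter.unusedSectionVars false
set_option linter.style.haveILetI false

namespace CfsgLib.PiClasses

variable {G : Type*} [Group G] [Finite G] {π : Set ℕ} {m : ℕ}

theorem part_primeFactors (hm : m ∣ Nat.card G) (hmπ : ∀ q : ℕ, q.Prime → q ∣ m → q ∈ π)
    (hm' : ∀ q ∈ π, ¬ q ∣ Nat.card G / m) : part m.primeFactors (Nat.card G) = m := by
  have hn0 : Nat.card G ≠ 0 := Nat.card_pos.ne'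
  have hm0 : m ≠ 0 := fun e => hn0 (zero_dvd_iff.1 (e ▸ hm))
  conv_rhs => rw [← Nat.prod_factorization_pow_eq_self hm0]
  rw [Finsupp.prod, Nat.support_factorization]
  refine Finset.prod_congr rfl fun q hq => ?_
  obtain ⟨hqp, hqd, -⟩ := Nat.mem_primeFactors.1 hq
  have h := Nat.factorization_eq_zero_of_not_dvd (hm' q (hmπ q hqp hqd))
  rw [Nat.factorization_div hm, Finsupp.tsub_apply] at h
  have h2 := (Nat.factorization_le_iff_dvd hm0 hn0).2 hm q
  rw [show (Nat.card G).factorization q = m.factorization q by omega]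

theorem kk_primeFactors (hm : m ∣ Nat.card G) (hmπ : ∀ q : ℕ, q.Prime → q ∣ m → q ∈ π)
    (hm' : ∀ q ∈ π, ¬ q ∣ Nat.card G / m) :
    kk m.primeFactors G =
      Nat.card {C : ConjClasses G // ∀ q : ℕ, q.Prime → (∃ g : G, ConjClasses.mk g = C ∧ q ∣ orderOf g) → q ∈ π} := by
  have hn0 : Nat.card G ≠ 0 := Nat.card_pos.ne'
  have hm0 : m ≠ 0 := fun e => hn0 (zero_dvd_iff.1 (e ▸ hm))
  refine Nat.card_congr (Equiv.subtypeEquivRight fun C => ⟨fun h q hq hg => ?_, fun h => ?_⟩)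
  · obtain ⟨g, hgC, hd⟩ := hg
    exact hmπ q hq (Nat.dvd_of_mem_primeFactors (isEl_of_mk ⟨C, h⟩ hgC q hq hd))
  · obtain ⟨g, rfl⟩ := ConjClasses.exists_rep C
    refine ⟨g, fun q hq hd => ?_, rfl⟩
    have hqπ := h q hq ⟨g, rfl, hd⟩
    have hqn : q ∣ m * (Nat.card G / m) := by rw [Nat.mul_div_cancel' hm]; exact hd.trans (orderOf_dvd_natCard g)
    exact Nat.mem_primeFactors.2 ⟨hq, (hq.dvd_mul.1 hqn).resolve_right (hm' q hqπ), hm0⟩

/-- Above the stronger threshold every Sylow subgroup at the primes involved is commutative. -/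
theorem sylow_comm_of_many {σ : Finset ℕ} (hσ : ∀ q ∈ σ, q.Prime) {t : ℕ} (ht : t.Prime) (hmin : ∀ q ∈ σ, t ≤ q)
    (hk : part σ (Nat.card G) * (t ^ 2 + t - 1) < t ^ 3 * kk σ G) :
    part σ (Nat.card G) < t * kk σ G ∧ ∀ s ∈ σ, ∀ S : Sylow s G, IsMulCommutative ↥(S : Subgroup G) := by
  have ht2 := ht.two_le
  have h1 : part σ (Nat.card G) < t * kk σ G := by
    refine Nat.lt_of_mul_lt_mul_left (a := t ^ 2) (lt_of_le_of_lt ?_ (hk.trans_eq (by ring)))
    rw [mul_comm (t ^ 2)]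
    exact Nat.mul_le_mul_left _ (by omega)
  refine ⟨h1, fun s hs S => ?_⟩
  haveI := Fact.mk (hσ s hs)
  have he : ∀ q ∈ σ.erase s, q.Prime := fun q hq => hσ q (Finset.mem_of_mem_erase hq)
  have h := (kk_insert_le (G := G) (hσ s hs) he).1
  rw [Finset.insert_erase hs] at h
  have hp : part σ (Nat.card G) = Nat.card ↥(S : Subgroup G) * part (σ.erase s) (Nat.card G) := by
    rw [sylow_card S, ← part_insert (Finset.notMem_erase s σ), Finset.insert_erase hs]
  rw [hp] at h1 hk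
  rcases (hmin s hs).lt_or_eq with hlt | rfl
  · refine isMulCommutative_of_large hlt S (Nat.lt_of_mul_lt_mul_right (a := part (σ.erase s) (Nat.card G))
      (h1.trans_le ?_))
    rw [mul_assoc]
    exact Nat.mul_le_mul_left _ h
  · by_contra hnc
    have h2 := classes_mul_cube_le S.2 hnc
    refine lt_irrefl _ (hk.trans_le ?_)
    calc t ^ 3 * kk σ G ≤ t ^ 3 * (Nat.card (ConjClasses ↥(S : Subgroup G)) * part (σ.erase t) (Nat.card G)) :=
          Nat.mul_le_mul_left _ (h.trans (Nat.mul_le_mul_right _ (kk_le_classes S)))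
      _ = Nat.card (ConjClasses ↥(S : Subgroup G)) * t ^ 3 * part (σ.erase t) (Nat.card G) := by ring
      _ ≤ Nat.card ↥(S : Subgroup G) * (t ^ 2 + t - 1) * part (σ.erase t) (Nat.card G) := Nat.mul_le_mul_right _ h2
      _ = _ := by ring

end CfsgLib.PiClasses
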