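import Cfsg.Agent.Lib.PiClasses.Basic
import Cfsg.Agent.Lib.Solvable.CoprimeAction

/-!
# Orbit bounds at one Sylow subgroup of a centraliser
-/

set_option autoImplicit false
set_option linter.unusedSectionVars false
set_option linter.style.haveILetI false

namespace CfsgLib.PiClasses

open Subgroup
open scoped Pointwise

variable {G : Type*} [Group G] [Finite G]

/-- Conjugation of a normalised subgroup by a subgroup. -/
def conjAction (Γ S : Subgroup G) (h : Γ ≤ normalizer (S : Set G)) : MulAction ↥Γ ↥S where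
  smul g a := ⟨(g : G) * (a : G) * (g : G)⁻¹, ((mem_normalizer_iff.1 (h g.2)) _).1 a.2⟩
  one_smul a := Subtype.ext (show ((1 : ↥Γ) : G) * (a : G) * ((1 : ↥Γ) : G)⁻¹ = a by simp)
  mul_smul g g' a := Subtype.ext (show ((g * g' : ↥Γ) : G) * (a : G) * ((g * g' : ↥Γ) : G)⁻¹ =
    (g : G) * ((g' : G) * (a : G) * (g' : G)⁻¹) * (g : G)⁻¹ by simp [mul_assoc])

theorem card_fixed_conj (Γ S : Subgroup G) (h : Γ ≤ normalizer (S : Set G)) :
    letI := conjAction Γ S h
    Nat.card (MulAction.fixedPoints ↥Γ ↥S) = Nat.card ↥(S ⊓ centralizer (Γ : Set G)) := by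
  letI := conjAction Γ S h
  refine Nat.card_congr
    { toFun := fun x => ⟨((x.1 : ↥S) : G), x.1.2, mem_centralizer_iff.2 fun g hg => ?_⟩
      invFun := fun x => ⟨⟨x.1, x.2.1⟩, fun g => Subtype.ext ?_⟩
      left_inv := fun x => rfl
      right_inv := fun x => rfl }
  · have := congrArg Subtype.val (x.2 ⟨g, hg⟩)
    exact mul_inv_eq_iff_eq_mul.1 this
  · show (g : G) * x.1 * (g : G)⁻¹ = x.1
    rw [mem_centralizer_iff.1 x.2.2 g g.2, mul_inv_cancel_right]

/-- A subgroup of coprime prime-power order that moves a group of prime-power order fixes little of it. -/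
theorem succ_mul_fixed_le {r s : ℕ} [hr : Fact r.Prime] [hs : Fact s.Prime] (hrs : r ≠ s) {Γ S : Subgroup G}
    (hΓ : IsPGroup r ↥Γ) (hS : IsPGroup s ↥S) (h : Γ ≤ normalizer (S : Set G))
    (hne : ¬ S ≤ centralizer (Γ : Set G)) :
    (r + 1) * Nat.card ↥(S ⊓ centralizer (Γ : Set G)) ≤ Nat.card ↥S := by
  letI := conjAction Γ S h
  have hd : Nat.card ↥(S ⊓ centralizer (Γ : Set G)) ∣ Nat.card ↥S := Subgroup.card_dvd_of_le inf_le_left
  refine succ_mul_card_fixed_le hr.out hd ?_ ?_ ?_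
  · refine lt_of_le_of_ne (Subgroup.card_le_of_le inf_le_left) fun e => hne ?_
    exact (eq_of_le_of_card_ge inf_le_left e.ge).symm.le.trans inf_le_right
  · rw [← card_fixed_conj Γ S h]
    exact hΓ.card_modEq_card_fixedPoints ↥S
  · obtain ⟨k, hk⟩ := IsPGroup.iff_card.1 hS
    exact (Nat.Coprime.pow_right k ((Nat.coprime_primes hr.out hs.out).2 hrs)).coprime_dvd_right (hk ▸ hd)

variable {r s : ℕ} [Fact r.Prime] [Fact s.Prime]

/-- Every `s`-element of the centraliser of an `r`-element that normalises a Sylow `s`-subgroup `S` of a normal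
`r'`-subgroup `K` containing all `s`-elements is conjugate there into `S`. -/
theorem exists_conj_mem_centralizer {K S : Subgroup G} [K.Normal] (hrs : r ≠ s) (hKr : ¬ r ∣ Nat.card ↥K)
    (hKs : ∀ g : G, IsEl {s} g → g ∈ K) (hS : IsPGroup s ↥S)
    (hScard : Nat.card ↥S = s ^ (Nat.card G).factorization s) {y : G} (hy : IsEl {r} y)
    (hyS : y ∈ normalizer (S : Set G)) (a : ↥(centralizer ({y} : Set G))) (ha : IsEl {s} a) :
    ∃ b : ↥(centralizer ({y} : Set G)), (b : G) ∈ S ∧ IsConj a b := by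
  have hA : IsPGroup r ↥(zpowers y) := isPGroup_zpowers hy
  have hAK : zpowers y ≤ normalizer (K : Set G) := by rw [normalizer_eq_top K]; exact le_top
  have hcop : (Nat.card ↥(zpowers y)).Coprime (Nat.card ↥K) := by
    obtain ⟨k, hk⟩ := IsPGroup.iff_card.1 hA
    rw [hk]
    exact Nat.Coprime.pow_left _ ((Fact.out : r.Prime).coprime_iff_not_dvd.2 hKr)
  have hsolv : Group.IsSolvable ↥(zpowers y) ∨ Group.IsSolvable ↥K := by
    haveI := hA.isNilpotent
    exact Or.inl inferInstance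
  have haG : IsEl {s} (a : G) := IsEl.coe.1 ha
  have hU : zpowers (a : G) ≤ K := zpowers_le.2 (hKs _ haG)
  have hUA : zpowers y ≤ normalizer (zpowers (a : G) : Set G) := by
    refine le_trans (zpowers_le.2 ?_) (centralizer_le_normalizer (s := (zpowers (a : G) : Set G)))
    refine mem_centralizer_iff.2 fun b hb => ?_
    obtain ⟨i, rfl⟩ := mem_zpowers_iff.1 hb
    exact (Commute.zpow_left (show Commute (a : G) y from mem_centralizer_singleton_iff.1 a.2) i).eq
  obtain ⟨P, hP, hPn⟩ := CfsgLib.Solvable.exists_invariant_sylow_ge hAK hcop hsolv s hU (isPGroup_zpowers haG) hUA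
  have hSK : S ≤ K := fun g hg => hKs g fun q hq hd => by
    obtain ⟨k, hk⟩ := hS ⟨g, hg⟩
    have h1 : orderOf g ∣ s ^ k := orderOf_dvd_of_pow_eq_one (congrArg Subtype.val hk)
    rw [Finset.mem_singleton]
    exact (Nat.prime_dvd_prime_iff_eq hq Fact.out).1 (hq.dvd_of_dvd_pow (hd.trans h1))
  have hPc : Nat.card ↥S = Nat.card ↥(P : Subgroup ↥K) := by
    refine le_antisymm ?_ ?_
    · obtain ⟨T, hT⟩ := (hS.of_equiv (subgroupOfEquivOfLe hSK).symm).exists_le_sylow
      rw [← Nat.card_congr (subgroupOfEquivOfLe hSK).toEquiv]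
      refine (Subgroup.card_le_of_le hT).trans_eq ?_
      rw [T.card_eq_multiplicity, P.card_eq_multiplicity]
    · rw [hScard, P.card_eq_multiplicity]
      exact Nat.pow_le_pow_right (Fact.out : s.Prime).pos
        ((Nat.factorization_le_iff_dvd Nat.card_pos.ne' Nat.card_pos.ne').2 (Subgroup.card_subgroup_dvd_card K) s)
  obtain ⟨S', hS'⟩ := CfsgLib.Solvable.exists_sylow_map_eq hSK P hPc
  obtain ⟨c, hc, hcP⟩ := CfsgLib.Solvable.exists_centralizer_conj_sylow (zpowers y) K hAK hcop hsolv P S' hPn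
    (by rw [hS']; exact zpowers_le.2 hyS)
  have hcy : c ∈ centralizer ({y} : Set G) := mem_centralizer_singleton_iff.2
    (mem_centralizer_iff.1 (mem_inf.1 hc).2 y (mem_zpowers y)).symm
  refine ⟨⟨c, hcy⟩ * a * ⟨c, hcy⟩⁻¹, ?_, isConj_iff.2 ⟨_, rfl⟩⟩
  rw [← hS', ← hcP]
  exact Subgroup.smul_mem_pointwise_smul _ (MulAut.conj c) _ (hP (mem_zpowers _))

open scoped _root_.Classical in
/-- The bound for the `s`-classes of the centraliser of an element `y` of an `r`-subgroup `R` moving `S`. -/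
theorem kk_centralizer_bound {K S R : Subgroup G} [K.Normal] (hrs : r ≠ s) (hKr : ¬ r ∣ Nat.card ↥K)
    (hKs : ∀ g : G, IsEl {s} g → g ∈ K) (hS : IsPGroup s ↥S)
    (hScard : Nat.card ↥S = s ^ (Nat.card G).factorization s) (hR : IsPGroup r ↥R)
    (hRS : R ≤ normalizer (S : Set G)) (hRcomm : ∀ a ∈ R, ∀ b ∈ R, a * b = b * a)
    (hne : ¬ S ≤ centralizer (R : Set G)) {y : G} (hy : y ∈ R) :
    (r + 1) * kk {s} ↥(centralizer ({y} : Set G)) ≤ Nat.card ↥S * (if y ∈ centralizer (S : Set G) then 2 else 1) := by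
  classical
  set C := centralizer ({y} : Set G)
  have hyel : IsEl {r} y := fun q hq hd => by
    obtain ⟨k, hk⟩ := hR ⟨y, hy⟩
    have h1 : orderOf y ∣ r ^ k := orderOf_dvd_of_pow_eq_one (congrArg Subtype.val hk)
    rw [Finset.mem_singleton]
    exact (Nat.prime_dvd_prime_iff_eq hq Fact.out).1 (hq.dvd_of_dvd_pow (hd.trans h1))
  set U := S ⊓ centralizer (zpowers y : Set G)
  have hUC : U ≤ C := inf_le_right.trans (fun g hg => mem_centralizer_singleton_iff.2
    (mem_centralizer_iff.1 hg y (mem_zpowers y)).symm)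
  have hCU : ∀ g : G, g ∈ S → g ∈ C → g ∈ U := fun g hg hgC => ⟨hg, mem_centralizer_iff.2 fun b hb => by
    obtain ⟨i, rfl⟩ := mem_zpowers_iff.1 hb
    exact (Commute.zpow_left (show Commute y g from (mem_centralizer_singleton_iff.1 hgC).symm) i).eq⟩
  have hUel : ∀ u : ↥U, IsEl {s} (⟨(u : G), hUC u.2⟩ : ↥C) := fun u => IsEl.coe.2 fun q hq hd => by
    obtain ⟨k, hk⟩ := hS ⟨u, (mem_inf.1 u.2).1⟩
    have h1 : orderOf (u : G) ∣ s ^ k := orderOf_dvd_of_pow_eq_one (congrArg Subtype.val hk)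
    rw [Finset.mem_singleton]
    exact (Nat.prime_dvd_prime_iff_eq hq Fact.out).1 (hq.dvd_of_dvd_pow (hd.trans h1))
  let f : ↥U → Cls {s} ↥C := fun u => ⟨ConjClasses.mk ⟨(u : G), hUC u.2⟩, _, hUel u, rfl⟩
  have hf : Function.Surjective f := fun c => by
    obtain ⟨a, ha, e⟩ := c.2
    obtain ⟨b, hb, hab⟩ := exists_conj_mem_centralizer hrs hKr hKs hS hScard hyel (hRS hy) a ha
    exact ⟨⟨b, hCU _ hb b.2⟩, Subtype.ext ((ConjClasses.mk_eq_mk_iff_isConj.2 hab.symm).trans e)⟩
  by_cases hyS : y ∈ centralizer (S : Set G)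
  · rw [if_pos hyS]
    have hUS : U = S := le_antisymm inf_le_left fun g hg =>
      hCU g hg (mem_centralizer_singleton_iff.2 (mem_centralizer_iff.1 hyS g hg))
    have hRC : R ≤ C := fun g hg => mem_centralizer_singleton_iff.2 (hRcomm g hg y hy)
    have hRU : R ≤ normalizer (U : Set G) := hUS.symm ▸ hRS
    letI := conjAction R U hRU
    haveI := hR
    have h := prime_mul_card_le hR f hf fun g u => by
      refine Subtype.ext ?_
      show ConjClasses.mk (⟨((g • u : ↥U) : G), _⟩ : ↥C) = ConjClasses.mk (⟨(u : G), _⟩ : ↥C)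
      rw [ConjClasses.mk_eq_mk_iff_isConj]
      refine IsConj.symm (isConj_iff.2 ⟨(⟨(g : G), hRC g.2⟩ : ↥C), ?_⟩)
      exact Subtype.ext rfl
    rw [card_fixed_conj R U hRU, hUS] at h
    have hfix := succ_mul_fixed_le hrs hR hS hRS hne
    have hr1 := (Fact.out : r.Prime).one_le
    refine Nat.le_of_mul_le_mul_right (c := r) ?_ hr1
    calc (r + 1) * kk {s} ↥C * r = (r + 1) * (kk {s} ↥C * r) := mul_assoc _ _ _
      _ ≤ (r + 1) * (Nat.card ↥S + (r - 1) * Nat.card ↥(S ⊓ centralizer (R : Set G))) := Nat.mul_le_mul_left _ h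
      _ = (r + 1) * Nat.card ↥S + (r - 1) * ((r + 1) * Nat.card ↥(S ⊓ centralizer (R : Set G))) := by ring
      _ ≤ (r + 1) * Nat.card ↥S + (r - 1) * Nat.card ↥S := Nat.add_le_add_left (Nat.mul_le_mul_left _ hfix) _
      _ = Nat.card ↥S * 2 * r := by rw [← Nat.add_mul, show r + 1 + (r - 1) = 2 * r by omega]; ring
  · rw [if_neg hyS, mul_one]
    refine le_trans (Nat.mul_le_mul_left _ (Nat.card_le_card_of_surjective f hf)) ?_
    refine succ_mul_fixed_le hrs (isPGroup_zpowers hyel) hS (zpowers_le.2 (hRS hy)) fun h => hyS ?_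
    exact mem_centralizer_iff.2 fun g hg => (mem_centralizer_iff.1 (h hg) y (mem_zpowers y)).symm

end CfsgLib.PiClasses
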