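import Cfsg.Agent.Lib.PiClasses.Fusion

/-!
# Many classes at a set of primes force a nilpotent Hall subgroup with a small derived subgroup
-/

set_option autoImplicit false
set_option linter.unusedSectionVars false
set_option linter.style.haveILetI false

namespace CfsgLib.PiClasses

open Subgroup
open scoped commutatorElement

universe u

section combine

variable {G : Type*} [Group G] [Finite G]

theorem card_commutator_coe (H : Subgroup G) : Nat.card ↥(commutator ↥H) = Nat.card ↥⁅H, H⁆ := by
  rw [← H.map_subtype_commutator, card_map_of_injective H.subtype_injective]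

theorem card_commutator_of_comm {H : Subgroup G} (h : IsMulCommutative ↥H) : Nat.card ↥(commutator ↥H) = 1 := by
  rw [(commutator_eq_bot_iff ↥H).2 h, Subgroup.card_bot]

/-- A commutative Sylow subgroup and a subgroup of its centraliser at other primes. -/
theorem combine {σ : Finset ℕ} (hσ : ∀ q ∈ σ, q.Prime) {r : ℕ} [hr : Fact r.Prime] (hrσ : r ∉ σ) (R : Sylow r G)
    (hRc : IsMulCommutative ↥(R : Subgroup G)) (H : Subgroup G)
    (hHC : H ≤ centralizer ((R : Subgroup G) : Set G)) (hH : Group.IsNilpotent ↥H)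
    (hHc : Nat.card ↥H = part σ (Nat.card G)) :
    ∃ K : Subgroup G, Nat.card ↥K = part (insert r σ) (Nat.card G) ∧ Group.IsNilpotent ↥K ∧
      Nat.card ↥(commutator ↥K) ≤ Nat.card ↥(commutator ↥H) ∧ (IsMulCommutative ↥H → IsMulCommutative ↥K) := by
  have hcomm : ∀ (a : ↥(R : Subgroup G)) (b : ↥H),
      Commute ((R : Subgroup G).subtype a) (H.subtype b) := fun a b => mem_centralizer_iff.1 (hHC b.2) a a.2
  set φ := MonoidHom.noncommCoprod (R : Subgroup G).subtype H.subtype hcomm with hφdef
  have hval : ∀ x, φ x = (x.1 : G) * (x.2 : G) := fun x => rfl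
  have hinj : Function.Injective φ := by
    rw [injective_iff_map_eq_one]
    rintro ⟨a, b⟩ h
    rw [hval] at h
    have ha : (a : G) ∈ H := by rw [eq_inv_of_mul_eq_one_left h]; exact inv_mem b.2
    have h1 := Subgroup.orderOf_dvd_natCard (s := (R : Subgroup G)) a.2
    have h2 := Subgroup.orderOf_dvd_natCard (s := H) ha
    rw [sylow_card R] at h1
    rw [hHc] at h2
    have ha1 : (a : G) = 1 := orderOf_eq_one_iff.1 (Nat.dvd_one.1 (by
      rw [← ((part_coprime hσ hr.out hrσ (Nat.card G)).pow_left ((Nat.card G).factorization r)).gcd_eq_one]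
      exact Nat.dvd_gcd h1 h2))
    have hb1 : (b : G) = 1 := by rwa [ha1, one_mul] at h
    exact Prod.ext (Subtype.ext ha1) (Subtype.ext hb1)
  have e := MonoidHom.ofInjective hinj
  refine ⟨φ.range, ?_, ?_, ?_, fun hHab => ?_⟩
  · rw [← Nat.card_congr e.toEquiv, Nat.card_prod, sylow_card R, hHc, part_insert hrσ]
  · haveI := hH
    haveI := R.2.isNilpotent
    exact (Group.isNilpotent_congr e).1 inferInstance
  · rw [card_commutator_coe, card_commutator_coe]
    refine Subgroup.card_le_of_le (commutator_le.2 ?_)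
    rintro _ ⟨x, rfl⟩ _ ⟨y, rfl⟩
    rw [← map_commutatorElement, hval]
    have h1 : ⁅x, y⁆.1 = 1 := commutatorElement_eq_one_iff_mul_comm.2 (hRc.is_comm.comm _ _)
    rw [h1, OneMemClass.coe_one, one_mul]
    exact commutator_mem_commutator x.2.2 y.2.2
  · refine ⟨⟨?_⟩⟩
    rintro ⟨_, x, rfl⟩ ⟨_, y, rfl⟩
    refine Subtype.ext ?_
    show φ x * φ y = φ y * φ x
    rw [← map_mul, ← map_mul]
    exact congrArg φ (Prod.ext (hRc.is_comm.comm _ _) (hHab.is_comm.comm _ _))

end combine

theorem sylow_comm_centralizer {G : Type*} [Group G] [Finite G] {s : ℕ} [Fact s.Prime] (C : Subgroup G)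
    (h : ∀ S : Sylow s G, IsMulCommutative ↥(S : Subgroup G)) (Q : Sylow s ↥C) :
    IsMulCommutative ↥(Q : Subgroup ↥C) := by
  obtain ⟨P, hP⟩ := (Q.2.map C.subtype).exists_le_sylow
  refine ⟨⟨fun a b => Subtype.ext (Subtype.ext ?_)⟩⟩
  have := congrArg Subtype.val ((h P).is_comm.comm (⟨_, hP ⟨_, a.2, rfl⟩⟩ : ↥(P : Subgroup G)) ⟨_, hP ⟨_, b.2, rfl⟩⟩)
  exact this

theorem hall_of_many_classes {t : ℕ} (ht : t.Prime) (σ : Finset ℕ) :
    (∀ q ∈ σ, q.Prime) → (∀ q ∈ σ, t ≤ q) → ∀ (G : Type u) [Group G] [Finite G],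
      part σ (Nat.card G) < t * kk σ G →
      ∃ H : Subgroup G, Nat.card ↥H = part σ (Nat.card G) ∧ Group.IsNilpotent ↥H ∧
        Nat.card ↥(commutator ↥H) ≤ t ∧
        ((∀ s ∈ σ, ∀ S : Sylow s G, IsMulCommutative ↥(S : Subgroup G)) → IsMulCommutative ↥H) := by
  induction σ using Finset.strongInduction with
  | H σ ih =>
  intro hσ hmin G _ _ hk
  classical
  set n := Nat.card G with hn
  -- the hypothesis passes to each single prime and to the complements
  have herase : ∀ r ∈ σ, part (σ.erase r) n < t * kk (σ.erase r) G ∧ r ^ n.factorization r < t * kk {r} G := by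
    intro r hr
    have he : ∀ q ∈ σ.erase r, q.Prime := fun q hq => hσ q (Finset.mem_of_mem_erase hq)
    have h := kk_insert_le (G := G) (hσ r hr) he
    rw [Finset.insert_erase hr, ← hn] at h
    have hp : part σ n = r ^ n.factorization r * part (σ.erase r) n := by
      rw [← part_insert (Finset.notMem_erase r σ), Finset.insert_erase hr]
    rw [hp] at hk
    constructor
    · refine Nat.lt_of_mul_lt_mul_left (a := r ^ n.factorization r) (hk.trans_le ?_)
      calc t * kk σ G ≤ t * (kk (σ.erase r) G * r ^ n.factorization r) := Nat.mul_le_mul_left _ h.2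
        _ = _ := by ring
    · refine Nat.lt_of_mul_lt_mul_right (a := part (σ.erase r) n) (hk.trans_le ?_)
      calc t * kk σ G ≤ t * (kk {r} G * part (σ.erase r) n) := Nat.mul_le_mul_left _ h.1
        _ = _ := by ring
  by_cases hσ0 : σ = ∅
  · subst hσ0
    have h1 : ∀ a : ↥(⊥ : Subgroup G), a = 1 := fun a => Subtype.ext (Subgroup.mem_bot.1 a.2)
    have hc : IsMulCommutative ↥(⊥ : Subgroup G) := ⟨⟨fun a b => by rw [h1 a, h1 b]⟩⟩
    exact ⟨⊥, by rw [Subgroup.card_bot, part_empty], inferInstance,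
      by rw [card_commutator_of_comm hc]; exact ht.one_le, fun _ => hc⟩
  by_cases hσ1 : ∃ r, σ = {r}
  · obtain ⟨r, rfl⟩ := hσ1
    haveI := Fact.mk (hσ r (Finset.mem_singleton_self r))
    obtain ⟨R⟩ := (inferInstance : Nonempty (Sylow r G))
    have hR : Nat.card ↥(R : Subgroup G) < t * kk {r} G := by
      rw [sylow_card R]; exact (herase r (Finset.mem_singleton_self r)).2
    refine ⟨R, by rw [part_singleton]; exact sylow_card R, R.2.isNilpotent, ?_,
      fun h => h r (Finset.mem_singleton_self r) R⟩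
    rcases (hmin r (Finset.mem_singleton_self r)).lt_or_eq with hlt | rfl
    · rw [card_commutator_of_comm (isMulCommutative_of_large hlt R hR)]; exact ht.one_le
    · exact card_commutator_le R.2 (hR.trans_le (Nat.mul_le_mul_left _ (kk_le_classes R)))
  by_cases hA : ∃ r ∈ σ, ∃ _ : Fact r.Prime, ∃ R : Sylow r G, IsMulCommutative ↥(R : Subgroup G) ∧
      normalizer ((R : Subgroup G) : Set G) ≤ centralizer ((R : Subgroup G) : Set G)
  · obtain ⟨r, hr, _, R, hRc, hN⟩ := hA
    have he : ∀ q ∈ σ.erase r, q.Prime := fun q hq => hσ q (Finset.mem_of_mem_erase hq)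
    obtain ⟨H, hHc, hHn, hHd, hHab⟩ := ih _ (Finset.erase_ssubset hr) he
      (fun q hq => hmin q (Finset.mem_of_mem_erase hq)) G (herase r hr).1
    obtain ⟨x, hx⟩ := exists_conj_le_centralizer he (Finset.notMem_erase r σ) (hmin r hr) R
      (fun a ha b hb => congrArg Subtype.val (hRc.is_comm.comm (⟨a, ha⟩ : ↥(R : Subgroup G)) ⟨b, hb⟩)) hN
      (by rw [Finset.insert_erase hr]; exact hk) H hHn hHc
    set f := (MulAut.conj x).toMonoidHom
    have hf : Function.Injective f := (MulAut.conj x).injective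
    set eH := H.equivMapOfInjective f hf
    obtain ⟨K, hK1, hK2, hK3, hK4⟩ := combine he (Finset.notMem_erase r σ) R hRc (H.map f) hx
      ((Group.isNilpotent_congr eH).1 hHn) (by rw [card_map_of_injective hf, hHc])
    refine ⟨K, by rw [hK1, Finset.insert_erase hr], hK2, hK3.trans (le_of_eq_of_le ?_ hHd), fun h => hK4 ?_⟩
    · rw [card_commutator_coe, card_commutator_coe, ← map_commutator, card_map_of_injective hf]
    · have hH' := hHab fun s hs => h s (Finset.mem_of_mem_erase hs)
      refine ⟨⟨fun a b => eH.symm.injective ?_⟩⟩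
      rw [map_mul, map_mul]
      exact hH'.is_comm.comm _ _
  -- every prime shows fusion or a non-commutative Sylow subgroup; split off the largest one
  have hne : σ.Nonempty := Finset.nonempty_iff_ne_empty.2 hσ0
  set r := σ.max' hne with hrdef
  have hr : r ∈ σ := σ.max'_mem hne
  set τ := σ.erase r with hτ
  have hτp : ∀ q ∈ τ, q.Prime := fun q hq => hσ q (Finset.mem_of_mem_erase hq)
  have hτlt : ∀ q ∈ τ, q < r := fun q hq =>
    lt_of_le_of_ne (σ.le_max' q (Finset.mem_of_mem_erase hq)) (Finset.ne_of_mem_erase hq)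
  obtain ⟨s, hs⟩ : τ.Nonempty := Finset.nonempty_iff_ne_empty.2 fun e =>
    hσ1 ⟨r, by rw [← Finset.insert_erase hr, ← hτ, e]; rfl⟩
  have htr : t < r := (hmin s (Finset.mem_of_mem_erase hs)).trans_lt (hτlt s hs)
  haveI := Fact.mk (hσ r hr)
  obtain ⟨R⟩ := (inferInstance : Nonempty (Sylow r G))
  have hRc : IsMulCommutative ↥(R : Subgroup G) :=
    isMulCommutative_of_large htr R (by rw [sylow_card R]; exact (herase r hr).2)
  have hN : ¬ normalizer ((R : Subgroup G) : Set G) ≤ centralizer ((R : Subgroup G) : Set G) :=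
    fun h => hA ⟨r, hr, inferInstance, R, hRc, h⟩
  set C := centralizer ((R : Subgroup G) : Set G) with hC
  set P := part τ n with hP
  have hPdvd : part τ (Nat.card ↥C) ∣ P := part_dvd_part Nat.card_pos.ne' (Subgroup.card_subgroup_dvd_card C)
  by_cases hfull : part τ (Nat.card ↥C) = P ∧ P < t * kk τ ↥C
  · obtain ⟨H, hHc, hHn, hHd, hHab⟩ := ih τ (Finset.erase_ssubset hr) hτp
      (fun q hq => hmin q (Finset.mem_of_mem_erase hq)) ↥C (by rw [hfull.1]; exact hfull.2)
    set eH := H.equivMapOfInjective C.subtype C.subtype_injective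
    obtain ⟨K, hK1, hK2, hK3, hK4⟩ := combine hτp (Finset.notMem_erase r σ) R hRc (H.map C.subtype)
      (map_subtype_le H) ((Group.isNilpotent_congr eH).1 hHn)
      (by rw [card_map_of_injective C.subtype_injective, hHc, hfull.1])
    refine ⟨K, by rw [hK1, hτ, Finset.insert_erase hr], hK2, hK3.trans (le_of_eq_of_le ?_ hHd), fun h => hK4 ?_⟩
    · rw [card_commutator_coe, card_commutator_coe, ← map_commutator, card_map_of_injective C.subtype_injective]
    · have hH' := hHab fun s' hs' Q => by
        haveI := Fact.mk (hτp s' hs')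
        exact sylow_comm_centralizer C (h s' (Finset.mem_of_mem_erase hs')) Q
      refine ⟨⟨fun a b => eH.symm.injective ?_⟩⟩
      rw [map_mul, map_mul]
      exact hH'.is_comm.comm _ _
  exfalso
  have hkC : t * kk τ ↥C ≤ P := by
    by_cases h : part τ (Nat.card ↥C) = P
    · exact not_lt.1 fun h' => hfull ⟨h, h'⟩
    · exact (Nat.mul_le_mul_left _ (kk_le_part hτp _)).trans
        (mul_part_le hτp (fun q hq => hmin q (Finset.mem_of_mem_erase hq)) Nat.card_pos.ne'
          (Subgroup.card_subgroup_dvd_card C) h)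
  have hkτ : 2 * t * kk τ G ≤ (t + 1) * P := by
    haveI := Fact.mk (hτp s hs)
    obtain ⟨S⟩ := (inferInstance : Nonempty (Sylow s G))
    have h1 := kk_small_bound (hmin s (Finset.mem_of_mem_erase hs)) S (by
      by_contra h
      rw [not_or, not_not, not_not] at h
      exact hA ⟨s, Finset.mem_of_mem_erase hs, inferInstance, S, h.1, h.2⟩)
    have h2 := (kk_insert_le (G := G) (hτp s hs) (σ := τ.erase s)
      fun q hq => hτp q (Finset.mem_of_mem_erase hq)).1
    rw [Finset.insert_erase hs] at h2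
    calc 2 * t * kk τ G ≤ 2 * t * (kk {s} G * part (τ.erase s) n) := Nat.mul_le_mul_left _ h2
      _ = 2 * t * kk {s} G * part (τ.erase s) n := (mul_assoc _ _ _).symm
      _ ≤ (t + 1) * Nat.card ↥(S : Subgroup G) * part (τ.erase s) n := Nat.mul_le_mul_right _ h1
      _ = _ := by
        rw [hP, mul_assoc, sylow_card S, ← hn, ← part_insert (Finset.notMem_erase s τ), Finset.insert_erase hs]
  have hRc' : ∀ a ∈ (R : Subgroup G), ∀ b ∈ (R : Subgroup G), a * b = b * a := fun a ha b hb =>
    congrArg Subtype.val (hRc.is_comm.comm (⟨a, ha⟩ : ↥(R : Subgroup G)) ⟨b, hb⟩)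
  have hfus := kk_fusion_bound (σ := τ) R hRc' hN
  rw [hτ, Finset.insert_erase hr, ← hτ, ← hC] at hfus
  have hpart : part σ n = Nat.card ↥(R : Subgroup G) * P := by
    rw [hP, sylow_card R, ← hn, hτ, ← part_insert (Finset.notMem_erase r σ), Finset.insert_erase hr]
  set a := Nat.card ↥(R : Subgroup G)
  rw [hpart] at hk
  have ht2 := ht.two_le
  by_cases hr2 : t + 2 ≤ r
  · have h1 : t * (2 * r * kk σ G) ≤ a * P * (2 * r) := by
      calc t * (2 * r * kk σ G)
          ≤ t * (a * ((r + 1) * kk τ ↥C + 2 * Nat.card (NonFull τ (R : Subgroup G)))) := Nat.mul_le_mul_left _ hfus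
        _ ≤ t * (a * ((r + 1) * kk τ ↥C + 2 * kk τ G)) :=
            Nat.mul_le_mul_left _ (Nat.mul_le_mul_left _ (Nat.add_le_add_left (Nat.mul_le_mul_left _
              (card_nonfull_le (σ := τ) R)) _))
        _ = a * ((r + 1) * (t * kk τ ↥C) + 2 * t * kk τ G) := by ring
        _ ≤ a * ((r + 1) * P + (t + 1) * P) :=
            Nat.mul_le_mul_left _ (Nat.add_le_add (Nat.mul_le_mul_left _ hkC) hkτ)
        _ = a * P * (r + t + 2) := by ring
        _ ≤ _ := Nat.mul_le_mul_left _ (by omega)
    have h2 := Nat.mul_lt_mul_of_pos_right hk (show 0 < 2 * r by omega)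
    nlinarith
  · obtain rfl : t = 2 := by
      rcases ht.eq_two_or_odd with h | h
      · exact h
      · rcases (hσ r hr).eq_two_or_odd with h' | h' <;> omega
    have hr3 : r = 3 := by omega
    have hτ2 : τ = {2} := Finset.eq_singleton_iff_nonempty_unique_mem.2 ⟨⟨s, hs⟩, fun q hq => by
      have := hτlt q hq
      have := hmin q (Finset.mem_of_mem_erase hq)
      omega⟩
    obtain ⟨P₀, hd, hle, hk₀, -⟩ := card_nonfull_single (s := 2) R
    rw [← hτ2] at hle hk₀
    rw [← hC] at hk₀
    rw [← hn] at hd hle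
    have hP2 : P = 2 ^ n.factorization 2 := by rw [hP, hτ2, part_singleton]
    rw [← hP2] at hd hle
    generalize Nat.card (NonFull τ (R : Subgroup G)) = Y at hle hfus
    rw [hr3] at hfus
    have h0 : P₀ = P ∨ 2 * P₀ ≤ P := by
      obtain ⟨i, hi, rfl⟩ := (Nat.dvd_prime_pow Nat.prime_two).1 (hP2 ▸ hd)
      rw [hP2]
      rcases hi.eq_or_lt with rfl | hlt
      · exact Or.inl rfl
      · refine Or.inr ?_
        rw [← pow_succ']
        exact Nat.pow_le_pow_right (by norm_num) hlt
    have h1 : 4 * kk τ ↥C + 2 * Y ≤ 3 * P := by omega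
    have h2 : a * ((3 + 1) * kk τ ↥C + 2 * Y) ≤ a * (3 * P) :=
      Nat.mul_le_mul_left _ h1
    have h3 := hfus.trans h2
    nlinarith

end CfsgLib.PiClasses
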