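import Mathlib

/-!
# Counting orbits through a surjection constant on them

If a map out of a finite set is onto and constant on the orbits of a permutation, or of an action of an
`ℓ`-group, then its target is at most as large as the number of orbits.
-/

set_option autoImplicit false

namespace CfsgLib.PiClasses

variable {α β : Type*} [Finite α]

/-- Fibre-wise form of the counting. -/
theorem card_target_mul_le (f : α → β) (hf : Function.Surjective f) (fix : Set α) (c : ℕ)
    (h : ∀ b : β, c ≤ Nat.card {a : α // f a = b} + (c - 1) * Nat.card {a : α // f a = b ∧ a ∈ fix}) :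
    Nat.card β * c ≤ Nat.card α + (c - 1) * Nat.card fix := by
  classical
  haveI := Finite.of_surjective f hf
  letI := Fintype.ofFinite β
  have h1 : Nat.card α = ∑ b, Nat.card {a : α // f a = b} := by
    rw [← Nat.card_sigma]
    exact Nat.card_congr (Equiv.sigmaFiberEquiv f).symm
  have h2 : Nat.card fix = ∑ b, Nat.card {a : α // f a = b ∧ a ∈ fix} := by
    rw [← Nat.card_sigma]
    exact Nat.card_congr
      { toFun := fun a => ⟨f a.1, a.1, rfl, a.2⟩
        invFun := fun x => ⟨x.2.1, x.2.2.2⟩
        left_inv := fun a => rfl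
        right_inv := fun ⟨b, a, h, h'⟩ => by subst h; rfl }
  rw [h1, h2, Finset.mul_sum, ← Finset.sum_add_distrib, Nat.card_eq_fintype_card, ← smul_eq_mul, ← Finset.card_univ]
  exact Finset.card_nsmul_le_sum _ _ _ fun b _ => h b

/-- A permutation moving the points in pairs. -/
theorem two_mul_card_le (σ : Equiv.Perm α) (f : α → β) (hf : Function.Surjective f)
    (hinv : ∀ a, f (σ a) = f a) : Nat.card β * 2 ≤ Nat.card α + Nat.card {a : α | σ a = a} := by
  have h := card_target_mul_le f hf {a : α | σ a = a} 2 fun b => by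
    obtain ⟨a, ha⟩ := hf b
    haveI : Nonempty {a : α // f a = b} := ⟨⟨a, ha⟩⟩
    by_cases hfix : σ a = a
    · haveI : Nonempty {a : α // f a = b ∧ a ∈ {a : α | σ a = a}} := ⟨⟨a, ha, hfix⟩⟩
      have h1 := Nat.card_pos (α := {a : α // f a = b})
      have h2 := Nat.card_pos (α := {a : α // f a = b ∧ a ∈ {a : α | σ a = a}})
      omega
    · haveI : Nontrivial {a : α // f a = b} :=
        ⟨⟨⟨σ a, (hinv a).trans ha⟩, ⟨a, ha⟩, fun e => hfix (congrArg Subtype.val e)⟩⟩
      have h1 := Finite.one_lt_card (α := {a : α // f a = b})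
      omega
  simpa using h

/-- An action of an `ℓ`-group. -/
theorem prime_mul_card_le {Γ : Type*} [Group Γ] [Finite Γ] [MulAction Γ α] {ℓ : ℕ} [Fact ℓ.Prime] (hΓ : IsPGroup ℓ Γ)
    (f : α → β) (hf : Function.Surjective f) (hinv : ∀ (g : Γ) a, f (g • a) = f a) :
    Nat.card β * ℓ ≤ Nat.card α + (ℓ - 1) * Nat.card (MulAction.fixedPoints Γ α) := by
  refine card_target_mul_le f hf _ ℓ fun b => ?_
  obtain ⟨a, ha⟩ := hf b
  set T : Type _ := {a : α // f a = b}
  letI : SMul Γ T := ⟨fun g a => ⟨g • a.1, (hinv g a.1).trans a.2⟩⟩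
  letI : MulAction Γ T :=
    { one_smul := fun a => Subtype.ext (one_smul Γ a.1)
      mul_smul := fun g h a => Subtype.ext (mul_smul g h a.1) }
  haveI : Nonempty T := ⟨⟨a, ha⟩⟩
  have e : Nat.card (MulAction.fixedPoints Γ T) = Nat.card {a : α // f a = b ∧ a ∈ MulAction.fixedPoints Γ α} :=
    Nat.card_congr
      { toFun := fun x => ⟨x.1.1, x.1.2, fun g => congrArg Subtype.val (x.2 g)⟩
        invFun := fun x => ⟨⟨x.1, x.2.1⟩, fun g => Subtype.ext (x.2.2 g)⟩
        left_inv := fun x => rfl
        right_inv := fun x => rfl }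
  rw [← e]
  have hm := hΓ.card_modEq_card_fixedPoints T
  have hp := Nat.card_pos (α := T)
  rcases Nat.eq_zero_or_pos (Nat.card (MulAction.fixedPoints Γ T)) with h0 | h0
  · rw [h0, Nat.modEq_zero_iff_dvd] at hm
    exact (Nat.le_of_dvd hp hm).trans (Nat.le_add_right _ _)
  · have h1 : ℓ - 1 ≤ (ℓ - 1) * Nat.card (MulAction.fixedPoints Γ T) := Nat.le_mul_of_pos_right _ h0
    omega

/-- The complement of the fixed points of a coprime `r`-group action on a group is large. -/
theorem succ_mul_card_fixed_le {N U r : ℕ} (hr : r.Prime) (hUN : U ∣ N) (hlt : U < N) (hmod : N ≡ U [MOD r])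
    (hcop : r.Coprime U) : (r + 1) * U ≤ N := by
  obtain ⟨d, rfl⟩ := hUN
  have hd : 2 ≤ d := by
    by_contra hd
    interval_cases d <;> omega
  have hdvd : r ∣ U * (d - 1) := by
    rw [Nat.mul_sub, mul_one]
    exact (Nat.modEq_iff_dvd' hlt.le).1 hmod.symm
  have := Nat.le_of_dvd (by omega) (hcop.dvd_of_dvd_mul_left hdvd)
  have := hr.two_le
  rw [mul_comm (r + 1)]
  exact Nat.mul_le_mul_left _ (by omega)

end CfsgLib.PiClasses
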