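import Cfsg.Agent.Lib.PiClasses.Basic
import Cfsg.Agent.Lib.Char.Integral
import Cfsg.Agent.Lib.Char.Linear

/-!
# Class numbers of groups of prime-power order
-/

set_option autoImplicit false
set_option linter.unusedSectionVars false
set_option linter.style.haveILetI false

namespace CfsgLib.PiClasses

open Subgroup

variable {P : Type*} [Group P] [Finite P] {p : ℕ} [Fact p.Prime]

theorem classes_le_centre (hP : IsPGroup p P) :
    Nat.card (ConjClasses P) * p ≤ Nat.card P + (p - 1) * Nat.card ↥(center P) := by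
  haveI : Finite (ConjAct P) := Finite.of_equiv P ConjAct.toConjAct.toEquiv
  have h := prime_mul_card_le (α := P) (Γ := ConjAct P) hP ConjClasses.mk ConjClasses.mk_surjective
    fun g a => (ConjClasses.mk_eq_mk_iff_isConj.2 (isConj_iff.2 ⟨ConjAct.ofConjAct g, by rw [ConjAct.smul_def]⟩)).symm
  rwa [ConjAct.fixedPoints_eq_center] at h

/-- A non-commutative group of prime-power order has few classes. -/
theorem classes_mul_cube_le (hP : IsPGroup p P) (hnc : ¬ IsMulCommutative P) :
    Nat.card (ConjClasses P) * p ^ 3 ≤ Nat.card P * (p ^ 2 + p - 1) := by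
  have h := classes_le_centre hP
  have hp := (Fact.out : p.Prime).two_le
  obtain ⟨k, hk⟩ := hP.index (center P)
  have hk2 : 2 ≤ k := by
    by_contra hk2
    refine hnc ?_
    haveI : IsCyclic (P ⧸ center P) := by
      interval_cases k
      · haveI : Subsingleton (P ⧸ center P) := by
          rw [← Finite.card_le_one_iff_subsingleton]
          rw [Subgroup.index, pow_zero] at hk
          omega
        exact isCyclic_of_subsingleton
      · rw [Subgroup.index, pow_one] at hk
        exact isCyclic_of_prime_card hk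
    exact MonoidHom.isMulCommutative_of_isCyclic_of_ker_le_center (QuotientGroup.mk' (center P)) (by simp)
  have hZ : p ^ 2 * Nat.card ↥(center P) ≤ Nat.card P := by
    rw [← (center P).card_mul_index, hk, mul_comm]
    exact Nat.mul_le_mul_left _ (Nat.pow_le_pow_right (by omega) hk2)
  obtain ⟨p', rfl⟩ : ∃ p', p = p' + 1 := ⟨p - 1, by omega⟩
  simp only [Nat.add_sub_cancel] at h
  rw [show (p' + 1) ^ 2 + (p' + 1) - 1 = (p' + 1) ^ 2 + p' by omega]
  nlinarith

/-- Many classes force a small derived subgroup. -/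
theorem card_commutator_le (hP : IsPGroup p P) (h : Nat.card P < p * Nat.card (ConjClasses P)) :
    Nat.card ↥(commutator P) ≤ p := by
  classical
  letI := Fintype.ofFinite P
  set a := Nat.card {χ : Cfsg.IrrCharacter P // (χ : P → ℂ) 1 = 1} with ha
  have hlin : a = (commutator P).index := CfsgLib.Char.card_linear
  set N := Nat.card (ConjClasses P) with hN
  have hirr : Fintype.card (Cfsg.IrrCharacter P) = N := by
    rw [hN, ← CfsgLib.Char.card_irr_eq_card_conjClasses, Nat.card_eq_fintype_card]
  choose deg hpos hdeg using fun χ : Cfsg.IrrCharacter P => CfsgLib.Char.exists_degree_pos χ.2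
  have hsum : ∑ χ : Cfsg.IrrCharacter P, deg χ ^ 2 = Nat.card P := by
    have h1 := CfsgLib.Char.sum_degree_sq (G := P)
    simp_rw [hdeg] at h1
    exact_mod_cast h1
  have hge : ∀ χ : Cfsg.IrrCharacter P, ¬ (χ : P → ℂ) 1 = 1 → p ^ 2 ≤ deg χ ^ 2 := by
    intro χ hχ
    have hd := CfsgLib.Char.degree_dvd_card χ.2 (hdeg χ)
    obtain ⟨n, hn⟩ := IsPGroup.iff_card.1 hP
    rw [hn] at hd
    obtain ⟨i, -, hi⟩ := (Nat.dvd_prime_pow (Fact.out : p.Prime)).1 hd
    refine Nat.pow_le_pow_left ?_ _
    rcases Nat.eq_zero_or_pos i with rfl | hi0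
    · exact absurd (by rw [hdeg, hi, pow_zero, Nat.cast_one]) hχ
    · rw [hi]; exact Nat.le_self_pow hi0.ne' p
  have hlow : a * 1 + (N - a) * p ^ 2 ≤ Nat.card P := by
    rw [← hsum, ← Finset.sum_filter_add_sum_filter_not Finset.univ
      (fun χ : Cfsg.IrrCharacter P => (χ : P → ℂ) 1 = 1) (fun χ => deg χ ^ 2)]
    have hc : (Finset.univ.filter fun χ : Cfsg.IrrCharacter P => (χ : P → ℂ) 1 = 1).card = a := by
      rw [ha, Nat.card_eq_fintype_card, Fintype.card_subtype]
    have hc' : (Finset.univ.filter fun χ : Cfsg.IrrCharacter P => ¬ (χ : P → ℂ) 1 = 1).card = N - a := by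
      rw [Finset.filter_not, Finset.card_sdiff_of_subset (Finset.filter_subset _ _), Finset.card_univ, hirr, hc]
    refine Nat.add_le_add ?_ ?_
    · rw [← hc, ← smul_eq_mul]
      exact Finset.card_nsmul_le_sum _ _ _ fun χ _ => Nat.one_le_pow _ _ (hpos χ)
    · rw [← hc', ← smul_eq_mul]
      exact Finset.card_nsmul_le_sum _ _ _ fun χ hχ => hge χ (Finset.mem_filter.1 hχ).2
  have hP' : a * Nat.card ↥(commutator P) = Nat.card P := by
    rw [hlin, mul_comm]; exact (commutator P).card_mul_index
  have haN : a ≤ N := by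
    rw [← hirr, ← Nat.card_eq_fintype_card]; exact Finite.card_subtype_le _
  obtain ⟨m, hm⟩ := IsPGroup.iff_card.1 (hP.to_subgroup (commutator P))
  have hp := (Fact.out : p.Prime).two_le
  rw [hm]
  rcases le_or_gt m 1 with hm1 | hm1
  · exact (Nat.pow_le_pow_right (by omega) hm1).trans_eq (pow_one p)
  · exfalso
    obtain ⟨b, hb⟩ : ∃ b, N = a + b := ⟨N - a, by omega⟩
    rw [hb, Nat.add_sub_cancel_left, mul_one] at hlow
    rw [hb] at h
    have hbig : p ^ 2 * a ≤ Nat.card P := by
      rw [← hP', hm, mul_comm a]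
      exact Nat.mul_le_mul_right _ (Nat.pow_le_pow_right (by omega) hm1)
    have h2 : p ^ 3 * (a + b) + p * a ≤ p ^ 3 * a + p * Nat.card P := by nlinarith
    have h3 : p ^ 2 * Nat.card P + p * a < p ^ 3 * a + p * Nat.card P := by
      have : p ^ 2 * Nat.card P < p ^ 2 * (p * (a + b)) := Nat.mul_lt_mul_of_pos_left h (by positivity)
      nlinarith
    nlinarith

end CfsgLib.PiClasses
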